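import Cfsg.Agent.H808.RV.FTab

/-!
# Frames of fundamental subgroups: the fixator of the frame in the Weyl group of `E₆` (helper808, TEAM RV, frame data)
-/

set_option autoImplicit false
set_option linter.unusedSectionVars false

namespace Cfsg.Agent.H808.RV

open Subgroup Cfsg Cfsg.Lie Cfsg.Lie.ChevalleyDatum Cfsg.Agent.ChevalleyStructure
  Cfsg.Agent.ChevalleyStructure.Elts Cfsg.Agent.ChevalleyStructure.NPerm Cfsg.Agent.ChevalleyStructure.CoxeterGeom
  Cfsg.Agent.ChevalleyStructure.CoxeterGeomTypes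
  Cfsg.Agent.ChevalleyStructure.RootVec
  Cfsg.Agent.Nodes.RGDChev Cfsg.Agent.H412.OT Cfsg.Agent.H3.OT Cfsg.Agent.Nodes.Reps
  Cfsg.Agent.Tits.Roots Cfsg.Agent.Tits.Core

universe u

variable {M : CoxeterMatrix (Fin 6)} (hp : IsType chevE6 6 M) {K : Type u} [Field K]

theorem fix_E6 (n : ↥(chevE6.monomialSubgroup K))
    (hn : ∀ r (hr : r ∈ FE6), permHom hp.inList K n ⟨r, lt_E6 r hr⟩ = ⟨r, lt_E6 r hr⟩) :
    permHom hp.inList K n = 1 := by
  let cs : CoxeterSystem M M.Group := M.toCoxeterSystem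
  obtain ⟨w, hw⟩ := exists_rep hp cs n
  let σ : Fin 6 → Fin chevE6.nroots := fun j => permHom hp.inList K n ⟨chevE6.simple j, simple_lt hp.inList (lt_rank hp j)⟩
  have hσ : ∀ j : Fin 6, rep cs hp.isCartan w (sr j) = vec chevE6 6 (σ j) := by
    intro j
    have h1 := hw ⟨chevE6.simple j, simple_lt hp.inList (lt_rank hp j)⟩
    simp only at h1
    rw [vec_simple hp] at h1
    exact h1.symm
  have hc : ∀ j : Fin 6, ((σ j : Fin chevE6.nroots) : ℕ) ∈
      (![[56, 36], [46], [42, 37], [39], [37, 42], [36, 56]] : Fin 6 → List ℕ) j := by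
    intro j
    refine tab6a _ (Fin.is_lt _) j fun r hr => ?_
    have h1 := pr_perm hp.inList n ⟨r, lt_E6 r hr⟩ ⟨chevE6.simple j, simple_lt hp.inList (lt_rank hp j)⟩
    rw [hn r hr] at h1
    exact h1
  obtain ⟨u, hu⟩ := rep_mod3 hp cs w
  have h1 : v6 + (3 : ℤ) • u = vec chevE6 6 (σ 0) + (2 : ℤ) • vec chevE6 6 (σ 2) + vec chevE6 6 (σ 4) +
      (2 : ℤ) • vec chevE6 6 (σ 5) := by
    rw [← hu]
    conv_lhs => rw [sum_v6]
    rw [map_add, map_add, map_add, map_zsmul, map_zsmul, hσ, hσ, hσ, hσ]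
  have h2 : ∀ i : Fin 6, (vec chevE6 6 (σ 0) i + 2 * vec chevE6 6 (σ 2) i + vec chevE6 6 (σ 4) i +
      2 * vec chevE6 6 (σ 5) i - v6 i) % 3 = 0 := by
    intro i
    have h3 := congrFun h1 i
    simp only [Pi.add_apply, Pi.smul_apply, smul_eq_mul] at h3
    omega
  have h0 := hc 0
  have h02 := hc 2
  have h04 := hc 4
  have h05 := hc 5
  have h01 := hc 1
  have h03 := hc 3
  obtain ⟨e0, e2, e4, e5⟩ := tab6b _ h0 _ h02 _ h04 _ h05 h2
  have e1 : ((σ 1 : Fin chevE6.nroots) : ℕ) = 46 := List.mem_singleton.1 h01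
  have e3 : ((σ 3 : Fin chevE6.nroots) : ℕ) = 39 := List.mem_singleton.1 h03
  have h5 : ∀ j : Fin 6, rep cs hp.isCartan w (sr j) = sr j := by
    intro j
    rw [hσ j, ← vec_simple hp, simpleE6 j]
    fin_cases j
    · show vec chevE6 6 (σ 0) = _
      rw [e0]; rfl
    · show vec chevE6 6 (σ 1) = _
      rw [e1]; rfl
    · show vec chevE6 6 (σ 2) = _
      rw [e2]; rfl
    · show vec chevE6 6 (σ 3) = _
      rw [e3]; rfl
    · show vec chevE6 6 (σ 4) = _
      rw [e4]; rfl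
    · show vec chevE6 6 (σ 5) = _
      rw [e5]; rfl
  have h6 : w = 1 := eq_one_of_fix cs hp.isCartan w h5
  apply Equiv.ext
  intro r
  apply Fin.ext
  refine vec_inj hp (Fin.is_lt _) r.2 ?_
  rw [hw r, h6, map_one]
  rfl

end Cfsg.Agent.H808.RV
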