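import Cfsg.Agent.H808.RV.FTabA
import Cfsg.Agent.H808.RV.FSix

/-!
# Frames of fundamental subgroups (helper808, TEAM RV, frame data)

* `Rel z` : the relations of the involutions of the frame; `Rel.same` : if they all lie in components, they lie in the
  same component;
* `main_frame` : the frame in a subgroup of `D.group K`;
* `frame_f4`, `frame_e6`, `frame_e7`, `frame_e8` : for every Sylow 2-subgroup of the group.
-/

set_option autoImplicit false
set_option linter.unusedSectionVars false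

namespace Cfsg.Agent.H808.RV

open Subgroup Cfsg Cfsg.Lie Cfsg.Lie.ChevalleyDatum Cfsg.Agent.ChevalleyStructure
  Cfsg.Agent.ChevalleyStructure.Elts Cfsg.Agent.ChevalleyStructure.NPerm Cfsg.Agent.ChevalleyStructure.CoxeterGeom
  Cfsg.Agent.ChevalleyStructure.RootVec
  Cfsg.Agent.Nodes.RGDChev Cfsg.Agent.H412.OT Cfsg.Agent.H3.OT Cfsg.Agent.Nodes.Reps
open Cfsg.Agent.Nodes.RGDFoldSL (wS hS coe_wS coe_hS psi psi_up psi_lo psi_hS map_up map_lo map_hS)
open Cfsg.Agent.ChevalleyStructure.SL2Hom (up lo mem_closure_SL2)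
open Cfsg.Agent.H102.RV (Fund IsSyl Comps FrameIn)

universe u v w

/-! ### relations -/

/-- The relations between the involutions of a frame -/
structure Rel {S : Type u} [Group S] {ι : Type*} (z : ι → S) : Prop where
  inj : Function.Injective z
  comm : ∀ i i', z i * z i' = z i' * z i
  ord : ∀ i, orderOf (z i) = 2
  rel : ∀ i i', i ≠ i' → (∃ k, k ≠ i ∧ k ≠ i' ∧ z i * z i' * z k = 1) ∨
    ∃ k l, k ≠ i ∧ k ≠ i' ∧ l ≠ i ∧ l ≠ i' ∧ k ≠ l ∧ z i * z i' * z k * z l = 1

theorem Rel.conj {S : Type u} [Group S] {ι : Type*} {z : ι → S} (h : Rel z) (g : S) : Rel fun i => g * z i * g⁻¹ := by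
  refine ⟨fun i i' hi => h.inj (mul_left_cancel (mul_right_cancel hi)), fun i i' => ?_, fun i => ?_, fun i i' hne => ?_⟩
  · have e1 : g * z i * g⁻¹ * (g * z i' * g⁻¹) = g * (z i * z i') * g⁻¹ := by group
    have e2 : g * z i' * g⁻¹ * (g * z i * g⁻¹) = g * (z i' * z i) * g⁻¹ := by group
    rw [e1, e2, h.comm]
  · rw [H102.RV.orderOf_conj, h.ord]
  · rcases h.rel i i' hne with ⟨k, h1, h2, h3⟩ | ⟨k, l, h1, h2, h3, h4, h5, h6⟩
    · left
      refine ⟨k, h1, h2, ?_⟩
      have e : g * z i * g⁻¹ * (g * z i' * g⁻¹) * (g * z k * g⁻¹) = g * (z i * z i' * z k) * g⁻¹ := by group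
      rw [e, h3, mul_one, mul_inv_cancel]
    · right
      refine ⟨k, l, h1, h2, h3, h4, h5, ?_⟩
      have e : g * z i * g⁻¹ * (g * z i' * g⁻¹) * (g * z k * g⁻¹) * (g * z l * g⁻¹) =
        g * (z i * z i' * z k * z l) * g⁻¹ := by group
      rw [e, h6, mul_one, mul_inv_cancel]

/-- The involutions of the frame lie in the same component. -/
theorem Rel.same {S : Type u} [Group S] {ι : Type*} [Nonempty ι] {z : ι → S} (h : Rel z) {H : Subgroup S}
    {𝒦 : Set (Subgroup S)} (hC : Comps H 𝒦) (hz : ∀ i, ∃ K ∈ 𝒦, z i ∈ K) : ∃ K ∈ 𝒦, ∀ i, z i ∈ K := by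
  obtain ⟨i₀⟩ := (inferInstance : Nonempty ι)
  choose K hK hzK using hz
  have key : ∀ i i', i ≠ i' → K i = K i' := by
    intro i i' hne
    rcases h.rel i i' hne with ⟨k, h1, h2, h3⟩ | ⟨k, l, h1, h2, h3, h4, h5, h6⟩
    · exact (H102.RV.same_three hC (hK i) (hK i') (hK k) (hzK i) (hzK i') (hzK k) (h.ord i) (h.ord i') (h.ord k) h3).1
    · exact (H102.RV.same_four hC (hK i) (hK i') (hK k) (hK l) (hzK i) (hzK i') (hzK k) (hzK l) (h.ord i) (h.ord i')
        (h.ord k) (h.ord l) (fun e => hne (h.inj e)) (fun e => h1 (h.inj e).symm) (fun e => h3 (h.inj e).symm)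
        (h.comm _ _) (h.comm _ _) (h.comm _ _) (h.comm _ _) (h.comm _ _) (h.comm _ _) h6).1
  refine ⟨K i₀, hK i₀, fun i => ?_⟩
  by_cases hi : i = i₀
  · rw [← hi]; exact hzK i
  · rw [← key i i₀ hi]; exact hzK i

/-! ### the tables of a frame -/

/-- The tables used for a frame -/
structure Tabs (D : ChevalleyDatum) (l : ℕ) (F : List ℕ) (Sub : List (List ℕ)) : Prop where
  lt : ∀ r ∈ F, r < D.nroots
  A : ∀ r ∈ F, tabA D r = true
  B : ∀ r ∈ F, tabB D r = true
  C : tabC D F = true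
  O : tabO D F = true
  N : tabN D F = true
  Z : tabZ D F = true
  Q : tabQ D F = true
  E : TabE D l F Sub
  sub : ∀ I ∈ Sub, ∀ r ∈ I, r ∈ F

theorem tabs_F4 : Tabs chevF4 4 FF4 SF4 :=
  ⟨lt_F4, tabA_F4, tabB_F4, tabC_F4, tabO_F4, tabN_F4, tabZ_F4, tabQ_F4, tabE_F4, subF4⟩
theorem tabs_E6 : Tabs chevE6 6 FE6 SE6 :=
  ⟨lt_E6, tabA_E6, tabB_E6, tabC_E6, tabO_E6, tabN_E6, tabZ_E6, tabQ_E6, tabE_E6, subE6⟩
theorem tabs_E7 : Tabs chevE7 7 FE7 SE7 :=
  ⟨lt_E7, tabA_E7, tabB_E7, tabC_E7, tabO_E7, tabN_E7, tabZ_E7, tabQ_E7, tabE_E7, subE7⟩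
theorem tabs_E8 : Tabs chevE8 8 FE8 SE8 :=
  ⟨lt_E8, tabA_E8, tabB_E8, tabC_E8, tabO_E8, tabN_E8, tabZ_E8, tabQ_E8, tabE_E8, subE8⟩

section Main

variable {D : ChevalleyDatum} {l : ℕ} {M : CoxeterMatrix (Fin l)} (hp : IsType D l M) {K : Type u} [Field K]

/-- the homomorphism of `SL₂` of a subfield -/
noncomputable def jE (hD : InList D) (E : Subfield K) (r : ℕ) : Matrix.SpecialLinearGroup (Fin 2) E →* GL D.Idx K :=
  (psi hD K r).comp (Matrix.SpecialLinearGroup.map E.subtype)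

theorem map_injective (E : Subfield K) :
    Function.Injective (Matrix.SpecialLinearGroup.map (n := Fin 2) E.subtype) := by
  intro A B h
  apply Subtype.ext
  ext i j
  have h1 := congrArg (fun X : Matrix.SpecialLinearGroup (Fin 2) K => X.1 i j) h
  simpa using h1

theorem tabO_spec {F : List ℕ} (h : tabO D F = true) {a b : ℕ} (ha : a ∈ F) (hb : b ∈ F) (hab : a ≠ b) :
    orth D a b = true ∧ orth D a (D.neg b) = true := by
  unfold tabO at h
  have h1 := List.all_eq_true.1 (List.all_eq_true.1 h a ha) b hb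
  simp only [Bool.or_eq_true, beq_iff_eq, Bool.and_eq_true] at h1
  tauto

include hp in
theorem tabN_spec {F : List ℕ} (h : tabN D F = true) {a b : ℕ} (ha : a ∈ F) (hb : b ∈ F) (hab : a ≠ b) :
    ∃ j : Fin l, sumP D [a, b] (D.simple j) % 2 ≠ 0 := by
  unfold tabN at h
  have h1 := List.all_eq_true.1 (List.all_eq_true.1 h a ha) b hb
  simp only [Bool.or_eq_true, beq_iff_eq, List.any_eq_true, List.mem_range, bne_iff_ne, ne_eq] at h1
  obtain ⟨j, hj, h3⟩ := h1.resolve_left hab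
  exact ⟨⟨j, by rwa [← hp.rank_eq]⟩, h3⟩

include hp in
theorem tabZ_spec {F : List ℕ} (h : tabZ D F = true) {a : ℕ} (ha : a ∈ F) :
    ∃ j : Fin l, prC D a (D.simple j) % 2 ≠ 0 := by
  unfold tabZ at h
  have h1 := List.all_eq_true.1 h a ha
  simp only [List.any_eq_true, List.mem_range, bne_iff_ne, ne_eq] at h1
  obtain ⟨j, hj, h3⟩ := h1
  exact ⟨⟨j, by rwa [← hp.rank_eq]⟩, h3⟩

include hp in
theorem tabQ_spec {F : List ℕ} (h : tabQ D F = true) {a b : ℕ} (ha : a ∈ F) (hb : b ∈ F) (hab : a ≠ b) :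
    (∃ c ∈ F, c ≠ a ∧ c ≠ b ∧ ∀ j : Fin l, sumP D [a, b, c] (D.simple j) % 2 = 0) ∨
    ∃ c ∈ F, ∃ d ∈ F, c ≠ a ∧ c ≠ b ∧ d ≠ a ∧ d ≠ b ∧ c ≠ d ∧ ∀ j : Fin l, sumP D [a, b, c, d] (D.simple j) % 2 = 0 := by
  unfold tabQ at h
  have h1 := List.all_eq_true.1 (List.all_eq_true.1 h a ha) b hb
  simp only [Bool.or_eq_true, beq_iff_eq, List.any_eq_true, List.all_eq_true, List.mem_range, bne_iff_ne, ne_eq,
    Bool.and_eq_true] at h1
  rcases h1 with (h1 | ⟨c, hc, ⟨h2, h3⟩, h4⟩) | ⟨c, hc, d, hd, ⟨⟨⟨⟨h2, h3⟩, h4⟩, h5⟩, h6⟩, h7⟩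
  · exact absurd h1 hab
  · exact Or.inl ⟨c, hc, h2, h3, fun j => h4 j (lt_rank hp j)⟩
  · exact Or.inr ⟨c, hc, d, hd, h2, h3, h4, h5, h6, fun j => h7 j (lt_rank hp j)⟩

/-- **The frame.** -/
theorem main_frame' [Finite K] (h2 : (2 : K) ≠ 0) {E : Subfield K} (h5 : 5 ≤ Nat.card E) {F : List ℕ}
    {Sub : List (List ℕ)} (T : Tabs D l F Sub)
    (hfix : ∀ n : ↥(D.monomialSubgroup K), (∀ r (hr : r ∈ F), permHom hp.inList K n ⟨r, T.lt r hr⟩ = ⟨r, T.lt r hr⟩) →
      permHom hp.inList K n = 1)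
    {S : Type v} [Group S] [Finite S] {f : S →* GL D.Idx K} (hf : Function.Injective f) (hfG : ∀ x, f x ∈ D.group K)
    (hmem : ∀ r ∈ F, ∀ t ∈ E, xG hp.inList r t ∈ f.range ∧ xG hp.inList (D.neg r) t ∈ f.range)
    (hE : ∀ r ∈ F, ∀ A, psi hp.inList K r A ∈ f.range → psi hp.inList K r A ∈ (jE hp.inList E r).range)
    (P : Sylow 2 S) :
    ∃ (L : {r // r ∈ F} → Subgroup S) (z : {r // r ∈ F} → S), FrameD (P : Subgroup S) L z ∧ Rel z ∧
      ∃ g : S, ∀ r, ∀ y ∈ L r, ∃ B, f y = f g * jE hp.inList E r B * (f g)⁻¹ := by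
  have hD := hp.inList
  have hm1 : (-1 : K) ≠ 0 := neg_ne_zero.2 one_ne_zero
  have h2E : (2 : E) ≠ 0 := by
    intro h
    apply h2
    have h0 := congrArg E.subtype h
    rwa [map_ofNat, map_zero] at h0
  have h4 : 4 ≤ Nat.card E := by omega
  have h4K : 4 ≤ Nat.card K := h4.trans (Nat.card_le_card_of_injective _ E.subtype_injective)
  have hpsi : ∀ r ∈ F, Function.Injective (psi hD K r) := by
    intro r hr
    obtain ⟨j, hj⟩ := tabZ_spec hp T.Z hr
    exact psi_injective hD h2 h4K (T.lt r hr) (simple_lt hD (lt_rank hp j)) hj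
  have hj : ∀ r ∈ F, Function.Injective (jE hD E r) := fun r hr => (hpsi r hr).comp (map_injective E)
  have hjle : ∀ r ∈ F, (jE hD E r).range ≤ f.range := by
    rintro r hr _ ⟨A, rfl⟩
    have h3 : A ∈ (f.range).comap (jE hD E r) := by
      refine (Subgroup.closure_le _).2 ?_ (mem_closure_SL2 A)
      rintro _ (⟨t, rfl⟩ | ⟨t, rfl⟩)
      · show psi hD K r (Matrix.SpecialLinearGroup.map E.subtype (up t)) ∈ f.range
        rw [map_up, psi_up hD (T.lt r hr)]
        exact (hmem r hr t t.2).1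
      · show psi hD K r (Matrix.SpecialLinearGroup.map E.subtype (lo t)) ∈ f.range
        rw [map_lo, psi_lo hD (T.lt r hr)]
        exact (hmem r hr t t.2).2
    exact h3
  have hjhS : ∀ r ∈ F, ∀ c : E, jE hD E r (hS c) = hG hD r (c : K) := by
    intro r hr c
    show psi hD K r (Matrix.SpecialLinearGroup.map E.subtype (hS c)) = _
    rw [map_hS, psi_hS hD (T.lt r hr)]
    rfl
  have hz : ∀ r : {r // r ∈ F}, ∃ x : S, f x = jE hD E r (hS (-1)) := fun r => hjle r r.2 ⟨_, rfl⟩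
  choose z hz using hz
  have hzh : ∀ r : {r // r ∈ F}, f (z r) = hG hD r (-1 : K) := by
    intro r
    rw [hz, hjhS r r.2]
    rfl
  let L : {r // r ∈ F} → Subgroup S := fun r => (jE hD E r).range.comap f
  have hfund : ∀ r, Fund (L r) (z r) := by
    intro r
    refine fund_of hf h2E h4 (hj r r.2) (hjle r r.2) (hz r) fun g hg A => ?_
    have h6 : f g * hG hD r (-1 : K) = hG hD r (-1 : K) * f g := by rw [← hzh, ← map_mul, hg, map_mul]
    have h7 := cent_norm hD h2 (T.lt r r.2) (T.A r r.2) (T.B r r.2) (hfG g) h6 (jE hD E r A) ⟨_, rfl⟩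
    obtain ⟨B, hB⟩ := h7
    rw [← hB]
    apply hE r r.2
    rw [hB]
    obtain ⟨a, ha⟩ := hjle r r.2 ⟨A, rfl⟩
    exact ⟨g * a * g⁻¹, by rw [map_mul, map_mul, map_inv, ha]⟩
  have hcomm : ∀ r r' : {r // r ∈ F}, r ≠ r' → ∀ a ∈ L r, ∀ b ∈ L r', a * b = b * a := by
    rintro r r' hne a ⟨A, hA⟩ b ⟨B, hB⟩
    apply hf
    have h6 := tabO_spec T.O r.2 r'.2 (fun h => hne (Subtype.ext h))
    rw [map_mul, map_mul, ← hA, ← hB]
    exact psi_comm hD (T.lt r r.2) (T.lt r' r'.2) h6.1 h6.2 _ _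
  have hinv : ∀ t : S, orderOf t = 2 → (∀ r, ∀ x ∈ L r, t * x = x * t) → t ∈ closure (Set.range z) := by
    intro t ht htc
    have hc : ∀ r ∈ F, ∀ A, f t * jE hD E r A = jE hD E r A * f t := by
      intro r hr A
      obtain ⟨a, ha⟩ := hjle r hr ⟨A, rfl⟩
      have h6 := htc ⟨r, hr⟩ a ⟨A, ha.symm⟩
      rw [← ha, ← map_mul, h6, map_mul]
    obtain ⟨I, hI, e⟩ := inv_form hp h2 h5 T.lt T.C hfix (fun I hI r hr => T.lt r (T.sub I hI r hr)) T.E (hfG t)
      (by rw [← map_mul, H102.RV.sq_of_orderOf ht, map_one])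
      (fun r hr => by
        have h6 := hc r hr (up 1)
        have h7 : jE hD E r (up 1) = xG hD r (1 : K) := by
          show psi hD K r (Matrix.SpecialLinearGroup.map E.subtype (up 1)) = _
          rw [map_up, psi_up hD (T.lt r hr), map_one]
        rwa [h7] at h6)
      (fun r hr c hcE hc0 => by
        have h6 := hc r hr (hS ⟨c, hcE⟩)
        rwa [hjhS r hr] at h6)
    have h6 : ∀ I : List ℕ, (∀ r ∈ I, r ∈ F) → ∃ x ∈ closure (Set.range z), f x = zP hD K I := by
      intro I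
      induction I with
      | nil => exact fun _ => ⟨1, one_mem _, by rw [map_one]; rfl⟩
      | cons r I ih =>
        intro hI
        obtain ⟨x, hx, e⟩ := ih fun a ha => hI a (List.mem_cons_of_mem _ ha)
        refine ⟨z ⟨r, hI r List.mem_cons_self⟩ * x, mul_mem (subset_closure ⟨_, rfl⟩) hx, ?_⟩
        rw [map_mul, hzh, e]
        unfold zP
        rw [List.map_cons, List.prod_cons]
    obtain ⟨x, hx, e'⟩ := h6 I (T.sub I hI)
    have h7 : t = x := hf (by rw [e, e'])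
    rw [h7]
    exact hx
  have hrel : Rel z := by
    have hzz : ∀ r, z r * z r = 1 := fun r => H102.RV.sq_of_orderOf (hfund r).ord
    refine ⟨fun r r' h => ?_, fun r r' => ?_, fun r => (hfund r).ord, fun r r' hne => ?_⟩
    · by_contra hne
      obtain ⟨j, hj⟩ := tabN_spec hp T.N r.2 r'.2 (fun h => hne (Subtype.ext h))
      refine zP_ne_one (K := K) hp h2 (I := [r, r']) ?_ hj ?_
      · intro a ha
        simp only [List.mem_cons, List.not_mem_nil, or_false] at ha
        rcases ha with rfl | rfl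
        · exact T.lt _ r.2
        · exact T.lt _ r'.2
      · have h6 : zP hD K [(r : ℕ), (r' : ℕ)] = f (z r * z r') := by
          unfold zP
          rw [map_mul, hzh, hzh]
          simp
        rw [h6, ← h, hzz, map_one]
    · by_cases h : r = r'
      · rw [h]
      · exact hcomm r r' h _ (hfund r).mem _ (hfund r').mem
    · have hlt : ∀ r : {r // r ∈ F}, (r : ℕ) < D.nroots := fun r => T.lt r r.2
      rcases tabQ_spec hp T.Q r.2 r'.2 (fun h => hne (Subtype.ext h)) with ⟨c, hc, h6, h7, h8⟩ |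
        ⟨c, hc, d, hd, h6, h7, h8, h9, h10, h11⟩
      · left
        refine ⟨⟨c, hc⟩, fun h => h6 (congrArg Subtype.val h), fun h => h7 (congrArg Subtype.val h), ?_⟩
        apply hf
        have h12 := zP_eq_one (K := K) hp (I := [r, r', c]) (by
          intro a ha
          simp only [List.mem_cons, List.not_mem_nil, or_false] at ha
          rcases ha with rfl | rfl | rfl
          · exact hlt r
          · exact hlt r'
          · exact T.lt _ hc) h8
        rw [map_mul, map_mul, hzh, hzh, hzh, map_one, ← h12]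
        unfold zP
        simp [mul_assoc]
      · right
        refine ⟨⟨c, hc⟩, ⟨d, hd⟩, fun h => h6 (congrArg Subtype.val h), fun h => h7 (congrArg Subtype.val h),
          fun h => h8 (congrArg Subtype.val h), fun h => h9 (congrArg Subtype.val h),
          fun h => h10 (congrArg Subtype.val h), ?_⟩
        apply hf
        have h12 := zP_eq_one (K := K) hp (I := [r, r', c, d]) (by
          intro a ha
          simp only [List.mem_cons, List.not_mem_nil, or_false] at ha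
          rcases ha with rfl | rfl | rfl | rfl
          · exact hlt r
          · exact hlt r'
          · exact T.lt _ hc
          · exact T.lt _ hd) h11
        rw [map_mul, map_mul, map_mul, hzh, hzh, hzh, hzh, map_one, ← h12]
        unfold zP
        simp [mul_assoc]
  obtain ⟨g, hg⟩ := exists_frame hfund (fun r Q hQ => syl_quat hf h2E (hj r r.2) (hjle r r.2) (hz r) hQ) hcomm hinv P
  refine ⟨_, _, hg, hrel.conj g, g, ?_⟩
  intro r y hy
  rw [H102.RV.mem_map_conj] at hy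
  obtain ⟨B, hB⟩ := hy
  refine ⟨B, ?_⟩
  rw [hB, map_mul, map_mul, map_inv]
  group

/-- **The frame.** -/
theorem main_frame [Finite K] (h2 : (2 : K) ≠ 0) {E : Subfield K} (h5 : 5 ≤ Nat.card E) {F : List ℕ}
    {Sub : List (List ℕ)} (T : Tabs D l F Sub)
    (hfix : ∀ n : ↥(D.monomialSubgroup K), (∀ r (hr : r ∈ F), permHom hp.inList K n ⟨r, T.lt r hr⟩ = ⟨r, T.lt r hr⟩) →
      permHom hp.inList K n = 1)
    {S : Type v} [Group S] [Finite S] {f : S →* GL D.Idx K} (hf : Function.Injective f) (hfG : ∀ x, f x ∈ D.group K)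
    (hmem : ∀ r ∈ F, ∀ t ∈ E, xG hp.inList r t ∈ f.range ∧ xG hp.inList (D.neg r) t ∈ f.range)
    (hE : ∀ r ∈ F, ∀ A, psi hp.inList K r A ∈ f.range → psi hp.inList K r A ∈ (jE hp.inList E r).range)
    (P : Sylow 2 S) :
    ∃ (L : {r // r ∈ F} → Subgroup S) (z : {r // r ∈ F} → S), FrameD (P : Subgroup S) L z ∧ Rel z := by
  obtain ⟨L, z, h1, h3, -⟩ := main_frame' hp h2 h5 T hfix hf hfG hmem hE P
  exact ⟨L, z, h1, h3⟩

end Main

end Cfsg.Agent.H808.RV
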