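import Cfsg.Agent.H808.RV.Quot

/-!
# TEAM RV: A8

* isomorphism invariance: `Dom.congr`, `DB.congr`, `RowN.congr`, `RowE.congr`, `FHall.congr`, `cpi_congr`, `PiGrp.congr`,
  `OnePrime.congr`;
* `rowE_of_pi`, `rowE_of_out`, `dom_of_onePrime`, `cpi_of_onePrime`, `fhall_of_onePrime`.
-/

set_option autoImplicit false

namespace Cfsg.Agent.H808.RV

open Subgroup Cfsg Cfsg.Agent.H988.CPi Cfsg.Agent.H571.DExt Cfsg.Agent.H571.RV
open scoped Pointwise

variable {π : Set ℕ}

section congr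

universe u v

variable {S : Type u} {T : Type v} [Group S] [Group T]

theorem isPiHall_map (e : S ≃* T) {H : Subgroup S} : IsPiHall π (H.map e.toMonoidHom) ↔ IsPiHall π H := by
  have h1 : Nat.card (H.map e.toMonoidHom) = Nat.card H :=
    (Nat.card_congr (H.equivMapOfInjective e.toMonoidHom e.injective).toEquiv).symm
  have h2 : (H.map e.toMonoidHom).index = H.index := index_map_equiv H e
  constructor
  · rintro ⟨ha, hb⟩
    exact ⟨by rwa [h1] at ha, by rwa [h2] at hb⟩
  · rintro ⟨ha, hb⟩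
    exact ⟨by rwa [h1], by rwa [h2]⟩

theorem map_symm_map (e : S ≃* T) (K : Subgroup T) : (K.map e.symm.toMonoidHom).map e.toMonoidHom = K := by
  rw [Subgroup.map_map]
  convert Subgroup.map_id K
  ext x
  exact e.apply_symm_apply x

theorem map_map_symm (e : S ≃* T) (K : Subgroup S) : (K.map e.toMonoidHom).map e.symm.toMonoidHom = K := by
  rw [Subgroup.map_map]
  convert Subgroup.map_id K
  ext x
  exact e.symm_apply_apply x

theorem exists_eq_map (e : S ≃* T) (K : Subgroup T) : ∃ H : Subgroup S, K = H.map e.toMonoidHom :=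
  ⟨_, (map_symm_map e K).symm⟩

theorem card_map (e : S ≃* T) (H : Subgroup S) : Nat.card (H.map e.toMonoidHom) = Nat.card H :=
  (Nat.card_congr (H.equivMapOfInjective e.toMonoidHom e.injective).toEquiv).symm

theorem map_mono_iff (e : S ≃* T) {H K : Subgroup S} : H.map e.toMonoidHom ≤ K.map e.toMonoidHom ↔ H ≤ K :=
  Subgroup.map_le_map_iff_of_injective e.injective

theorem PiGrp.congr (e : S ≃* T) (h : PiGrp π S) : PiGrp π T := by
  have h1 : PiN π (Nat.card S) := h
  rw [Nat.card_congr e.toEquiv] at h1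
  exact h1

theorem OnePrime.congr (e : S ≃* T) (h : OnePrime π S) : OnePrime π T := by
  intro p q hp hq hpπ hqπ h1 h2
  rw [← Nat.card_congr e.toEquiv] at h1 h2
  exact h p q hp hq hpπ hqπ h1 h2

theorem cpi_congr (e : S ≃* T) (h : IsCPiGroup π S) : IsCPiGroup π T := by
  obtain ⟨⟨L, hL⟩, hc⟩ := h
  refine ⟨⟨_, (isPiHall_map e).2 hL⟩, fun H K hH hK => ?_⟩
  obtain ⟨H, rfl⟩ := exists_eq_map e H
  obtain ⟨K, rfl⟩ := exists_eq_map e K
  obtain ⟨g, hg⟩ := hc H K ((isPiHall_map e).1 hH) ((isPiHall_map e).1 hK)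
  refine ⟨e g, ?_⟩
  rw [hg, Subgroup.map_map, Subgroup.map_map]
  congr 1
  ext x
  simp

theorem dom_congr (e : S ≃* T) (h : Dom π S) : Dom π T := by
  obtain ⟨L, hL, hdom⟩ := h
  refine ⟨_, (isPiHall_map e).2 hL, fun K hK => ?_⟩
  obtain ⟨K, rfl⟩ := exists_eq_map e K
  rw [card_map] at hK
  obtain ⟨g, hg⟩ := hdom K hK
  refine ⟨e g, ?_⟩
  have h1 := Subgroup.map_mono (f := e.toMonoidHom) hg
  refine h1.trans (le_of_eq ?_)
  have h2 : MulAut.conj g • L = L.map (MulAut.conj g).toMonoidHom := rfl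
  have h3 : MulAut.conj (e g) • L.map e.toMonoidHom = (L.map e.toMonoidHom).map (MulAut.conj (e g)).toMonoidHom := rfl
  rw [h2, h3, Subgroup.map_map, Subgroup.map_map]
  congr 1
  ext x
  simp

/-- automorphisms of isomorphic groups -/
theorem congr_map (e : S ≃* T) (α : MulAut S) (H : Subgroup S) :
    (H.map e.toMonoidHom).map (MulAut.congr e α : T ≃* T).toMonoidHom = (H.map (α : S ≃* S).toMonoidHom).map e.toMonoidHom := by
  rw [Subgroup.map_map, Subgroup.map_map]
  congr 1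
  ext x
  show e (α (e.symm (e x))) = e (α x)
  rw [e.symm_apply_apply]

theorem mem_stab_congr (e : S ≃* T) {α : MulAut S} {H : Subgroup S} :
    MulAut.congr e α ∈ stab (H.map e.toMonoidHom) ↔ α ∈ stab H := by
  rw [mem_stab, mem_stab, congr_map]
  exact ⟨fun h => Subgroup.map_injective e.injective h, fun h => by rw [h]⟩

theorem stab_map (e : S ≃* T) (H : Subgroup S) :
    stab (H.map e.toMonoidHom) = (stab H).map (MulAut.congr e).toMonoidHom := by
  ext β
  obtain ⟨α, rfl⟩ := (MulAut.congr e).surjective β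
  rw [mem_stab_congr]
  constructor
  · intro h
    exact ⟨α, h, rfl⟩
  · rintro ⟨α', h, h'⟩
    rwa [← (MulAut.congr e).injective h']

theorem inn_map (e : S ≃* T) : inn T = (inn S).map (MulAut.congr e).toMonoidHom := by
  ext β
  constructor
  · rintro ⟨t, rfl⟩
    refine ⟨MulAut.conj (e.symm t), ⟨_, rfl⟩, ?_⟩
    ext x
    show e (e.symm t * e.symm x * (e.symm t)⁻¹) = t * x * t⁻¹
    simp
  · rintro ⟨_, ⟨s, rfl⟩, rfl⟩
    refine ⟨e s, ?_⟩
    ext x
    show e s * x * (e s)⁻¹ = e (s * e.symm x * s⁻¹)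
    simp

theorem DB.congr (e : S ≃* T) (h : DB π S) : DB π T := by
  obtain ⟨𝒜, hi, htr, hidx⟩ := h.out
  refine ⟨fun K hK => ?_, 𝒜.map (MulAut.congr e).toMonoidHom, ?_, fun H K hH hK => ?_, fun H hH => ?_⟩
  · obtain ⟨K, rfl⟩ := exists_eq_map e K
    rw [card_map] at hK
    obtain ⟨H, hH, hKH⟩ := h.dom K hK
    exact ⟨_, (isPiHall_map e).2 hH, Subgroup.map_mono hKH⟩
  · rw [inn_map e]
    exact Subgroup.map_mono hi
  · obtain ⟨H, rfl⟩ := exists_eq_map e H
    obtain ⟨K, rfl⟩ := exists_eq_map e K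
    obtain ⟨α, hα, hα'⟩ := htr H K ((isPiHall_map e).1 hH) ((isPiHall_map e).1 hK)
    exact ⟨MulAut.congr e α, ⟨α, hα, rfl⟩, by rw [congr_map, ← hα']⟩
  · obtain ⟨H, rfl⟩ := exists_eq_map e H
    have h1 := hidx H ((isPiHall_map e).1 hH)
    rw [stab_map, inn_map e, ← Subgroup.map_inf _ _ _ (MulAut.congr e).injective, ← Subgroup.map_sup,
      Subgroup.relIndex_map_map_of_injective _ _ (MulAut.congr e).injective]
    exact h1

theorem RowN.congr (e : S ≃* T) (h : RowN π S) : RowN π T := fun hT => cpi_congr e (h (DB.congr e.symm hT))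

theorem RowE.congr (e : S ≃* T) (h : RowE π S) : RowE π T := by
  intro hT P hP
  obtain ⟨P, rfl⟩ := exists_eq_map (MulAut.congr e) P
  rw [card_map] at hP
  obtain ⟨H, hH, hPH⟩ := h (dom_congr e.symm hT) P hP
  exact ⟨_, (isPiHall_map e).2 hH, by rw [stab_map]; exact Subgroup.map_mono hPH⟩

theorem FHall.congr (e : S ≃* T) (h : FHall π S) : FHall π T := by
  obtain ⟨r, hr, H, A, hH, hAH, hN, hab, hrA, hp⟩ := h
  refine ⟨r, hr, H.map e.toMonoidHom, A.map e.toMonoidHom, (isPiHall_map e).2 hH, Subgroup.map_mono hAH, ?_, ?_, ?_, ?_⟩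
  · refine (Subgroup.map_mono hN).trans ?_
    have h1 := Subgroup.le_normalizer_map (H := A) e.toMonoidHom
    exact h1
  · rintro _ ⟨a, ha, rfl⟩ _ ⟨b, hb, rfl⟩
    rw [← map_mul, ← map_mul, hab a ha b hb]
  · rwa [card_map]
  · intro p hp' hd
    rw [Subgroup.relIndex_map_map_of_injective _ _ e.injective] at hd
    exact hp p hp' hd

theorem FamRow.congr (e : S ≃* T) (h : FamRow π S) : FamRow π T := fun hT =>
  (h (DB.congr e.symm hT)).imp (PiGrp.congr e) fun h' => ⟨cpi_congr e h'.1, FHall.congr e h'.2⟩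

end congr

section rows

universe u

variable {S : Type u} [Group S]

theorem stab_top : stab (⊤ : Subgroup S) = ⊤ := by
  rw [eq_top_iff]
  intro α _
  rw [mem_stab, ← MonoidHom.range_eq_map]
  exact MonoidHom.range_eq_top.2 (α : S ≃* S).surjective

theorem rowE_of_pi (h : PiGrp π S) : RowE π S := fun _ P _ => ⟨⊤, PiGrp.hall h, by rw [stab_top]; exact le_top⟩

variable [Finite S]

theorem conj_mem_stab {H : Subgroup S} {h : S} (hh : h ∈ H) : MulAut.conj h ∈ stab H := by
  rw [mem_stab]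
  have h1 : H.map (MulAut.conj h).toMonoidHom ≤ H := by
    rintro _ ⟨x, hx, rfl⟩
    show h * x * h⁻¹ ∈ H
    exact H.mul_mem (H.mul_mem hh hx) (H.inv_mem hh)
  exact Subgroup.eq_of_le_of_card_ge h1 (by rw [card_map])

/-- inner `π`-groups of automorphisms normalise a Hall subgroup -/
theorem exists_hall_of_inn (hD : Dom π S) {P : Subgroup (MulAut S)} (hP : PiN π (Nat.card P)) (hPi : P ≤ inn S) :
    ∃ H : Subgroup S, IsPiHall π H ∧ P ≤ stab H := by
  obtain ⟨L, hL, rfl⟩ := exists_lift (MulAut.conj : S →* MulAut S) hPi hP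
  obtain ⟨H, hH, hLH⟩ := Dom.pi_le hD L hL
  refine ⟨H, hH, ?_⟩
  rintro _ ⟨l, hl, rfl⟩
  exact conj_mem_stab (hLH hl)

/-- `Out S` a `π'`-group -/
theorem rowE_of_out (h : PiN' π (inn S).index) : RowE π S := by
  intro hD P hP
  refine exists_hall_of_inn hD hP ?_
  have h1 : (inn S).relIndex P = 1 := by
    refine eq_one_of_both (π := π) (PiN.of_dvd hP ?_) (PiN'.of_dvd h ?_)
    · exact Subgroup.index_dvd_card _
    · exact Subgroup.relIndex_dvd_index_of_normal _ _
  exact Subgroup.relIndex_eq_one.1 h1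

/-- a Hall subgroup of prime power order -/
theorem exists_hall_of_onePrime (h : OnePrime π S) : ∃ r : ℕ, r.Prime ∧ ∃ H : Subgroup S, IsPiHall π H ∧
    IsPGroup r H := by
  by_cases hex : ∃ r : ℕ, r.Prime ∧ r ∈ π ∧ r ∣ Nat.card S
  · obtain ⟨r, hr, hrπ, hrd⟩ := hex
    have := Fact.mk hr
    obtain ⟨P⟩ : Nonempty (Sylow r S) := inferInstance
    refine ⟨r, hr, P, ⟨?_, ?_⟩, P.isPGroup'⟩
    · intro q hq hqd
      obtain ⟨k, hk⟩ := IsPGroup.iff_card.mp P.isPGroup'
      rw [hk] at hqd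
      rwa [(Nat.prime_dvd_prime_iff_eq hq hr).mp (hq.dvd_of_dvd_pow hqd)]
    · intro q hq hqπ hqd
      obtain rfl := h q r hq hr hqπ hrπ (hqd.trans (Subgroup.index_dvd_card _)) hrd
      exact P.not_dvd_index hqd
  · refine ⟨2, Nat.prime_two, ⊥, ⟨?_, ?_⟩, IsPGroup.of_bot⟩
    · intro q hq hqd
      rw [Subgroup.card_bot] at hqd
      exact absurd (Nat.dvd_one.mp hqd) hq.one_lt.ne'
    · intro q hq hqπ hqd
      rw [Subgroup.index_bot] at hqd
      exact hex ⟨q, hq, hqπ, hqd⟩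

theorem dom_of_onePrime (h : OnePrime π S) : Dom π S := by
  obtain ⟨r, hr, H, hH, hp⟩ := exists_hall_of_onePrime h
  have := Fact.mk hr
  exact dom_of_nilpotent hH hp.isNilpotent

theorem cpi_of_onePrime (h : OnePrime π S) : IsCPiGroup π S := (dom_of_onePrime h).cpi

theorem fhall_of_onePrime (h : OnePrime π S) : FHall π S := by
  obtain ⟨r, hr, H, hH, hp⟩ := exists_hall_of_onePrime h
  have := Fact.mk hr
  refine ⟨r, hr, H, ⊥, hH, bot_le, ?_, ?_, ?_, ?_⟩
  · intro h _
    rw [Subgroup.mem_normalizer_iff]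
    intro x
    rw [Subgroup.mem_bot, Subgroup.mem_bot]
    constructor
    · rintro rfl
      simp
    · intro h1
      exact conj_eq_one_iff.1 h1
  · intro a ha b hb
    rw [Subgroup.mem_bot.1 ha, Subgroup.mem_bot.1 hb]
  · rw [Subgroup.card_bot]
    intro hd
    exact hr.one_lt.ne' (Nat.dvd_one.mp hd)
  · intro p hp' hd
    rw [Subgroup.relIndex_bot_left] at hd
    obtain ⟨k, hk⟩ := IsPGroup.iff_card.mp hp
    rw [hk] at hd
    exact (Nat.prime_dvd_prime_iff_eq hp' hr).mp (hp'.dvd_of_dvd_pow hd)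

end rows

end Cfsg.Agent.H808.RV
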