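import Cfsg.Agent.H571.RV.Pred
import Cfsg.Agent.S4112

/-!
# TEAM RV: quotients (A2)

* `exists_lift` : a `π`-subgroup of the image of a homomorphism is the image of a `π`-subgroup;
* `dom_quot` : `Dom π G → Dom π (G ⧸ A)`; `dom_surj` : homomorphic images.
-/

set_option autoImplicit false

namespace Cfsg.Agent.H808.RV

open Subgroup Cfsg Cfsg.Agent.H988.CPi Cfsg.Agent.H571.DExt Cfsg.Agent.H571.RV
open scoped Pointwise

variable {π : Set ℕ} {G G' : Type*} [Group G] [Finite G] [Group G']

/-- a `π`-subgroup of the image of a homomorphism is the image of a `π`-subgroup -/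
theorem exists_lift (f : G →* G') {K : Subgroup G'} (hKf : K ≤ f.range) (hK : PiN π (Nat.card K)) :
    ∃ L : Subgroup G, PiN π (Nat.card L) ∧ L.map f = K := by
  set K₀ : Subgroup G := K.comap f with hK₀
  have hmap : K₀.map f = K := by rw [hK₀, Subgroup.map_comap_eq, inf_eq_right.2 hKf]
  have hA : f.ker ≤ K₀ := by
    intro a ha
    show f a ∈ K
    rw [MonoidHom.mem_ker.1 ha]
    exact one_mem K
  obtain ⟨H, hH, hp⟩ := S4112.exists_supplement (f.ker.subgroupOf K₀)
  have hidx : (f.ker.subgroupOf K₀).index = Nat.card K := by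
    have h1 : (f.comp K₀.subtype).ker = f.ker.subgroupOf K₀ := rfl
    have h2 : (f.comp K₀.subtype).range = K := by rw [MonoidHom.range_comp, Subgroup.range_subtype, hmap]
    rw [← h1, Subgroup.index_ker, h2]
  refine ⟨H.map K₀.subtype, ?_, ?_⟩
  · rw [Subgroup.card_subtype]
    intro p hp' hd
    have h1 := hp p hp' hd
    rw [hidx] at h1
    exact hK p hp' h1
  · have h1 : (H.map K₀.subtype) ⊔ f.ker = K₀ := by
      have h2 := congrArg (Subgroup.map K₀.subtype) hH
      rw [Subgroup.map_sup, Subgroup.subgroupOf_map_subtype, ← MonoidHom.range_eq_map, Subgroup.range_subtype,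
        inf_eq_left.2 hA] at h2
      exact h2
    have h2 : f.ker.map f = ⊥ := (Subgroup.map_eq_bot_iff _).2 le_rfl
    have h3 := congrArg (Subgroup.map f) h1
    rw [Subgroup.map_sup, h2, sup_bot_eq, hmap] at h3
    exact h3

theorem map_smul_conj [Finite G'] (f : G →* G') (g : G) (L : Subgroup G) :
    (MulAut.conj g • L).map f = MulAut.conj (f g) • L.map f := by
  rw [← conj_eq, ← conj_eq, Subgroup.map_map, Subgroup.map_map]
  congr 1
  ext x
  simp

/-- **A2** -/
theorem dom_quot (A : Subgroup G) [A.Normal] (h : Dom π G) : Dom π (G ⧸ A) := by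
  obtain ⟨L, hL, hdom⟩ := h
  refine ⟨L.map (QuotientGroup.mk' A), isPiHall_map_mk hL A, fun K hK => ?_⟩
  obtain ⟨M, hM, rfl⟩ := exists_lift (QuotientGroup.mk' A) (K := K)
    (by rw [MonoidHom.range_eq_top.2 (QuotientGroup.mk'_surjective A)]; exact le_top) hK
  obtain ⟨g, hg⟩ := hdom M hM
  refine ⟨QuotientGroup.mk' A g, ?_⟩
  rw [← map_smul_conj]
  exact Subgroup.map_mono hg

end Cfsg.Agent.H808.RV
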