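import Cfsg.Agent.H102.RV.Frame
import Cfsg.Agent.SignalizersComponents.SLQuasisimple
import Cfsg.Agent.Nodes.RGDFoldSL

/-!
# Frames of fundamental subgroups, abstract part (helper808, TEAM RV, frame data)

* `fund_of` : the preimage of a subgroup `j (SL₂(E))`, `E` a finite field of odd characteristic, `|E| ≥ 4`, is a
  fundamental subgroup (`H102.RV.Fund`);
* `FrameD P L z` : the data of a frame for a 2-subgroup `P` (of odd index); `FrameD.conj`;
* `exists_frame` : a family of commuting `SL₂(E i)` gives a frame for some Sylow 2-subgroup, hence for every one.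
-/

set_option autoImplicit false
set_option linter.unusedSectionVars false

namespace Cfsg.Agent.H808.RV

open Subgroup Cfsg Cfsg.Agent.H102.RV
open Cfsg.Agent.Nodes.RGDFoldSL (wS hS coe_wS coe_hS)

universe u v w

section SL

variable {E : Type w} [Field E]

local notation "SL2" => Matrix.SpecialLinearGroup (Fin 2) E

theorem hS_sq : (hS (-1 : E)) * hS (-1 : E) = 1 := by
  apply Subtype.ext
  rw [Matrix.SpecialLinearGroup.coe_mul, coe_hS (neg_ne_zero.2 one_ne_zero)]
  ext a b
  fin_cases a <;> fin_cases b <;> simp [Matrix.mul_apply, Fin.sum_univ_two]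

theorem hS_ne_one (h2 : (2 : E) ≠ 0) : hS (-1 : E) ≠ 1 := by
  intro h
  have h1 := congrArg (fun X : SL2 => X.1 0 0) h
  have h3 : (hS (-1 : E) : SL2).1 0 0 = -1 := by
    have := congrFun (congrFun (coe_hS (F := E) (neg_ne_zero.2 one_ne_zero)) 0) 0
    simpa using this
  simp only [h3] at h1
  apply h2
  have h4 : (1 : SL2).1 0 0 = (1 : E) := by simp
  rw [h4] at h1
  linear_combination -h1

/-- the involutions of `SL₂` -/
theorem eq_hS {A : Matrix.SpecialLinearGroup (Fin 2) E} (h2 : (2 : E) ≠ 0) (hA : A * A = 1) (h1 : A ≠ 1) :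
    A = hS (-1 : E) := by
  have hinv : A = A⁻¹ := eq_inv_of_mul_eq_one_left hA
  have h01 : A.1 0 1 = 0 := by
    have := congrArg (fun X : SL2 => X.1 0 1) hinv
    simp only [Matrix.SpecialLinearGroup.SL2_inv_expl] at this
    have h3 : A.1 0 1 = - A.1 0 1 := by simpa using this
    have h4 : 2 * A.1 0 1 = 0 := by linear_combination h3
    exact (mul_eq_zero.1 h4).resolve_left h2
  have h10 : A.1 1 0 = 0 := by
    have := congrArg (fun X : SL2 => X.1 1 0) hinv
    simp only [Matrix.SpecialLinearGroup.SL2_inv_expl] at this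
    have h3 : A.1 1 0 = - A.1 1 0 := by simpa using this
    have h4 : 2 * A.1 1 0 = 0 := by linear_combination h3
    exact (mul_eq_zero.1 h4).resolve_left h2
  have h00 : A.1 0 0 = A.1 1 1 := by
    have := congrArg (fun X : SL2 => X.1 0 0) hinv
    simp only [Matrix.SpecialLinearGroup.SL2_inv_expl] at this
    simpa using this
  have hdet := A.2
  rw [Matrix.det_fin_two, h01, h10, ← h00] at hdet
  have h5 : A.1 0 0 = 1 ∨ A.1 0 0 = -1 := by
    apply mul_self_eq_one_iff.1
    linear_combination hdet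
  rcases h5 with h5 | h5
  · exfalso
    apply h1
    apply Subtype.ext
    ext a b
    fin_cases a <;> fin_cases b <;> simp [h01, h10, ← h00, h5]
  · apply Subtype.ext
    rw [coe_hS (neg_ne_zero.2 one_ne_zero)]
    ext a b
    fin_cases a <;> fin_cases b <;> simp [h01, h10, ← h00, h5, inv_neg]

theorem sq_of_center {A : Matrix.SpecialLinearGroup (Fin 2) E} (hA : A ∈ center SL2) : A * A = 1 := by
  obtain ⟨r, hr, hrA⟩ := Matrix.SpecialLinearGroup.mem_center_iff.1 hA
  have h2 : r ^ 2 = 1 := by simpa using hr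
  apply Subtype.ext
  rw [Matrix.SpecialLinearGroup.coe_mul, ← hrA, ← map_mul, ← pow_two, h2, map_one]
  rfl

end SL

section Fund

variable {S : Type u} [Group S] [Finite S] {Γ : Type v} [Group Γ] {f : S →* Γ} (hf : Function.Injective f)
  {E : Type w} [Field E] [Finite E] (h2 : (2 : E) ≠ 0) (h4 : 4 ≤ Nat.card E)
  {j : Matrix.SpecialLinearGroup (Fin 2) E →* Γ} (hj : Function.Injective j) (hle : j.range ≤ f.range)

include hf h2 h4 hj hle in
/-- **Fundamental `SL₂`-subgroups.** -/
theorem fund_of {z : S} (hz : f z = j (hS (-1)))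
    (hcent : ∀ g : S, g * z = z * g → ∀ A, f g * j A * (f g)⁻¹ ∈ j.range) : Fund (j.range.comap f) z := by
  have hzz : z * z = 1 := by
    apply hf
    rw [map_mul, hz, ← map_mul, hS_sq, map_one, map_one]
  have hz1 : z ≠ 1 := by
    rintro rfl
    rw [map_one] at hz
    exact hS_ne_one h2 (hj (by rw [← hz, map_one]))
  refine ⟨orderOf_eq_two_of_sq hzz hz1, ⟨_, hz.symm⟩, ?_, ?_, ?_⟩
  · rintro t ⟨A, hA⟩ ht
    have h1 : A * A = 1 := by
      apply hj
      rw [map_mul, hA, ← map_mul, sq_of_orderOf ht, map_one, map_one]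
    have h3 : A ≠ 1 := by
      rintro rfl
      rw [map_one] at hA
      have h5 : t = 1 := hf (by rw [← hA, map_one])
      rw [h5, orderOf_one] at ht
      omega
    apply hf
    rw [hz, ← eq_hS h2 h1 h3, hA]
  · intro N hNL hn hodd
    let N' : Subgroup (Matrix.SpecialLinearGroup (Fin 2) E) := (N.map f).comap j
    have hN' : N'.Normal := by
      refine ⟨fun B hB A => ?_⟩
      obtain ⟨n, hnN, hnB⟩ := hB
      obtain ⟨l, hl⟩ := hle ⟨A, rfl⟩
      refine ⟨l * n * l⁻¹, hn l ⟨A, hl.symm⟩ n hnN, ?_⟩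
      rw [map_mul, map_mul, map_inv, hnB, hl, map_mul, map_mul, map_inv]
    have hcard : Nat.card N' ∣ Nat.card N := by
      have e1 : Nat.card N' = Nat.card (N'.map j) := Nat.card_congr (N'.equivMapOfInjective j hj).toEquiv
      have e2 : Nat.card N = Nat.card (N.map f) := Nat.card_congr (N.equivMapOfInjective f hf).toEquiv
      rw [e1, e2]
      exact Subgroup.card_dvd_of_le (Subgroup.map_comap_le _ _)
    have hodd' : Odd (Nat.card N') := hodd.of_dvd_nat hcard
    have hqs := Cfsg.Agent.SignalizersComponents.SLQuasisimple.isQuasisimple_two (F := E) h4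
    rcases Cfsg.Agent.SignalizersComponents.Components.quasisimple_normal hqs N' hN' with h | h
    · exfalso
      have h5 : orderOf (hS (-1 : E)) = 2 :=
        orderOf_eq_two_of_sq hS_sq (hS_ne_one h2)
      have h6 : hS (-1 : E) ∈ N' := by rw [h]; exact mem_top _
      have h7 : orderOf (hS (-1 : E)) ∣ Nat.card N' := by
        rw [← Subgroup.orderOf_mk _ h6]
        exact orderOf_dvd_natCard _
      rw [h5] at h7
      exact (Nat.not_even_iff_odd.2 hodd') (even_iff_two_dvd.2 h7)
    · rw [eq_bot_iff]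
      intro n hnN
      obtain ⟨B, hB⟩ := hNL hnN
      have h5 : B ∈ N' := ⟨n, hnN, hB.symm⟩
      have h6 := sq_of_center (h h5)
      have h7 : n * n = 1 := by
        apply hf
        rw [map_mul, ← hB, ← map_mul, h6, map_one, map_one]
      rw [Subgroup.mem_bot]
      have h8 : orderOf n ∣ Nat.card N := by
        rw [← Subgroup.orderOf_mk n hnN]
        exact orderOf_dvd_natCard _
      exact eq_one_of_odd_of_sq (hodd.of_dvd_nat h8) h7
  · intro g hg l hl
    obtain ⟨A, hA⟩ := hl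
    have h5 := hcent g hg A
    show f (g * l * g⁻¹) ∈ j.range
    rw [map_mul, map_mul, map_inv, ← hA]
    exact h5

end Fund

/-! ### the quaternion group in `SL₂(E)` -/

section Quat

variable {E : Type w} [Field E] [Finite E]

local notation "SL2" => Matrix.SpecialLinearGroup (Fin 2) E

/-- Two elements `u, v` of order 4 with `u² = v² = -1` and `u v = v⁻¹ u` -/
theorem exists_quat (h2 : (2 : E) ≠ 0) : ∃ a b : SL2, a * a = hS (-1) ∧ b * b = hS (-1) ∧ b * a * b⁻¹ = a⁻¹ ∧
    a * b ≠ b * a := by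
  have hF := Fintype.ofFinite E
  obtain ⟨x, y, hxy⟩ : ∃ x y : E, x ^ 2 + y ^ 2 = -1 := by
    obtain ⟨p, hp⟩ := CharP.exists E
    have : Fact p.Prime := ⟨CharP.char_is_prime E p⟩
    obtain ⟨a, b, hab⟩ := FiniteField.exists_root_sum_quadratic (R := E)
      (f := Polynomial.X ^ 2) (g := Polynomial.X ^ 2 - Polynomial.C (-1))
      (by simp) (by
        have : (Polynomial.X ^ 2 - Polynomial.C (-1 : E)).degree = ((2 : ℕ) : WithBot ℕ) :=
          Polynomial.degree_X_pow_sub_C (by norm_num) _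
        rw [this]; rfl) (by
        have h3 : ringChar E ≠ 2 := by
          intro h
          apply h2
          have h5 := ringChar.Nat.cast_ringChar (R := E)
          rw [h] at h5
          exact_mod_cast h5
        exact FiniteField.odd_card_of_char_ne_two h3)
    refine ⟨a, b, ?_⟩
    simp at hab
    linear_combination hab
  let a : SL2 := ⟨!![0, 1; -1, 0], by rw [Matrix.det_fin_two_of]; ring⟩
  let b : SL2 := ⟨!![x, y; y, -x], by rw [Matrix.det_fin_two_of]; linear_combination -hxy⟩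
  have ha : a * a = hS (-1) := by
    apply Subtype.ext
    rw [Matrix.SpecialLinearGroup.coe_mul, coe_hS (neg_ne_zero.2 one_ne_zero)]
    ext i j
    fin_cases i <;> fin_cases j <;> simp [a, Matrix.mul_apply, Fin.sum_univ_two, inv_neg]
  have hb : b * b = hS (-1) := by
    apply Subtype.ext
    rw [Matrix.SpecialLinearGroup.coe_mul, coe_hS (neg_ne_zero.2 one_ne_zero)]
    ext i j
    fin_cases i <;> fin_cases j <;> simp [b, Matrix.mul_apply, Fin.sum_univ_two, inv_neg] <;>
      (first | linear_combination hxy | ring1)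
  have hab : b * a = a⁻¹ * b := by
    rw [eq_inv_mul_iff_mul_eq]
    apply Subtype.ext
    rw [Matrix.SpecialLinearGroup.coe_mul, Matrix.SpecialLinearGroup.coe_mul]
    ext i j
    fin_cases i <;> fin_cases j <;> simp [a, b, Matrix.mul_apply, Fin.sum_univ_two]
  refine ⟨a, b, ha, hb, by rw [hab, mul_inv_cancel_right], ?_⟩
  intro h
  rw [hab] at h
  have h5 : a = a⁻¹ := mul_right_cancel h
  have h6 : a * a = 1 := by
    nth_rewrite 1 [h5]
    rw [inv_mul_cancel]
  rw [ha] at h6
  exact hS_ne_one h2 h6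

theorem isPGroup_of_sq {G : Type*} [Group G] {a : G} (h4 : a ^ 4 = 1) : IsPGroup 2 (zpowers a) := by
  rintro ⟨x, hx⟩
  obtain ⟨n, rfl⟩ := mem_zpowers_iff.1 hx
  refine ⟨2, Subtype.ext ?_⟩
  show (a ^ n) ^ (2 ^ 2) = 1
  rw [← zpow_natCast, ← zpow_mul, mul_comm, zpow_mul]
  have : a ^ (((2 ^ 2 : ℕ)) : ℤ) = 1 := by exact_mod_cast h4
  rw [this, one_zpow]

/-- Sylow 2-subgroups of `j (SL₂(E))` : nonabelian, and `z` is a square. -/
theorem syl_quat {S : Type u} [Group S] [Finite S] {Γ : Type v} [Group Γ] {f : S →* Γ} (hf : Function.Injective f)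
    (h2 : (2 : E) ≠ 0) {j : Matrix.SpecialLinearGroup (Fin 2) E →* Γ} (hj : Function.Injective j)
    (hle : j.range ≤ f.range) {z : S} (hz : f z = j (hS (-1))) {Q : Subgroup S} (hQ : IsSyl Q (j.range.comap f)) :
    (∃ y ∈ Q, y * y = z) ∧ ∃ a ∈ Q, ∃ b ∈ Q, a * b ≠ b * a := by
  obtain ⟨a, b, ha, hb, hab, hne⟩ := exists_quat h2
  obtain ⟨a', ha'⟩ := hle ⟨a, rfl⟩
  obtain ⟨b', hb'⟩ := hle ⟨b, rfl⟩
  have haL : a' ∈ j.range.comap f := ⟨a, ha'.symm⟩
  have hbL : b' ∈ j.range.comap f := ⟨b, hb'.symm⟩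
  have haa : a' * a' = z := by
    apply hf
    rw [map_mul, ha', ← map_mul, ha, hz]
  have hbb : b' * b' = z := by
    apply hf
    rw [map_mul, hb', ← map_mul, hb, hz]
  have hzz : z * z = 1 := by
    apply hf
    rw [map_mul, hz, ← map_mul, hS_sq, map_one, map_one]
  have hba : b' * a' * b'⁻¹ = a'⁻¹ := by
    apply hf
    rw [map_mul, map_mul, map_inv, map_inv, ha', hb', ← map_inv, ← map_mul, ← map_mul, hab, map_inv]
  have hnab : a' * b' ≠ b' * a' := by
    intro h
    apply hne
    apply hj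
    rw [map_mul, map_mul, ← ha', ← hb', ← map_mul, h, map_mul]
  have h4 : ∀ x : S, x * x = z → x ^ 4 = 1 := by
    intro x hx
    have : x ^ 4 = (x * x) * (x * x) := by rw [← pow_two, ← pow_two, ← pow_mul]
    rw [this, hx, hzz]
  have hT : IsPGroup 2 (zpowers a' ⊔ zpowers b' : Subgroup S) := by
    refine isPGroup_sup (isPGroup_of_sq (h4 _ haa)) (isPGroup_of_sq (h4 _ hbb)) ?_
    have h5 : zpowers b' ≤ normalizer (zpowers a' : Set S) := by
      rw [zpowers_le, mem_normalizer_iff]
      intro x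
      have key : ∀ x, x ∈ zpowers a' → b' * x * b'⁻¹ ∈ zpowers a' := by
        intro x hx
        obtain ⟨n, rfl⟩ := mem_zpowers_iff.1 hx
        rw [← conj_zpow, hba]
        exact zpow_mem (inv_mem (mem_zpowers _)) n
      have key' : ∀ x, x ∈ zpowers a' → b'⁻¹ * x * b' ∈ zpowers a' := by
        intro x hx
        obtain ⟨n, rfl⟩ := mem_zpowers_iff.1 hx
        have e1 : b'⁻¹ * a' * b' = a'⁻¹ := by
          have e2 : a' = b'⁻¹ * (b' * a' * b'⁻¹) * b' := by group
          rw [hba] at e2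
          nth_rewrite 2 [e2]
          group
        have e2 : b'⁻¹ * a' ^ n * b' = (b'⁻¹ * a' * b'⁻¹⁻¹) ^ n := by rw [conj_zpow, inv_inv]
        rw [e2, inv_inv, e1]
        exact zpow_mem (inv_mem (mem_zpowers _)) n
      refine ⟨key x, fun hx => ?_⟩
      have h6 := key' _ hx
      have h7 : b'⁻¹ * (b' * x * b'⁻¹) * b' = x := by group
      rwa [h7] at h6
    exact fun y hy x hx => (mem_normalizer_iff.1 (h5 hy) x).1 hx
  have hTL : zpowers a' ⊔ zpowers b' ≤ j.range.comap f :=
    sup_le (by rw [zpowers_le]; exact haL) (by rw [zpowers_le]; exact hbL)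
  obtain ⟨c, hc, hcQ⟩ := hQ.conj_le hTL hT
  have h1 := hcQ a' (mem_sup_left (mem_zpowers _))
  have h3 := hcQ b' (mem_sup_right (mem_zpowers _))
  have hcz : c⁻¹ * z * c = z := by
    obtain ⟨C, hC⟩ := hc
    apply hf
    rw [map_mul, map_mul, map_inv, ← hC, hz, ← map_inv, ← map_mul, ← map_mul]
    congr 1
    apply eq_hS h2
    · have e : (C⁻¹ * hS (-1) * C) * (C⁻¹ * hS (-1) * C) = C⁻¹ * (hS (-1) * hS (-1)) * C := by group
      rw [e, hS_sq]
      group
    · intro h
      apply hS_ne_one h2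
      have e : hS (-1 : E) = C * (C⁻¹ * hS (-1) * C) * C⁻¹ := by group
      rw [e, h]
      group
  refine ⟨⟨_, h1, ?_⟩, _, h1, _, h3, ?_⟩
  · have e : c⁻¹ * a' * c * (c⁻¹ * a' * c) = c⁻¹ * (a' * a') * c := by group
    rw [e, haa, hcz]
  · intro h
    apply hnab
    have e1 : c⁻¹ * a' * c * (c⁻¹ * b' * c) = c⁻¹ * (a' * b') * c := by group
    have e2 : c⁻¹ * b' * c * (c⁻¹ * a' * c) = c⁻¹ * (b' * a') * c := by group
    rw [e1, e2] at h
    exact mul_left_cancel (mul_right_cancel h)

end Quat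

/-! ### frames -/

/-- The data of a frame of fundamental subgroups for the 2-subgroup `P` -/
structure FrameD {S : Type u} [Group S] {ι : Type*} (P : Subgroup S) (L : ι → Subgroup S) (z : ι → S) : Prop where
  fund : ∀ i, Fund (L i) (z i)
  syl : ∀ i, IsSyl (P ⊓ L i) (L i)
  pg : IsPGroup 2 P
  sq : ∀ i, ∃ y ∈ P ⊓ L i, y * y = z i
  nonab : ∀ i, ∃ a ∈ P ⊓ L i, ∃ b ∈ P ⊓ L i, a * b ≠ b * a
  comm : ∀ i i', i ≠ i' → ∀ a ∈ L i, ∀ b ∈ L i', a * b = b * a
  inv : ∀ t : S, orderOf t = 2 → (∀ i, ∀ l ∈ L i, t * l = l * t) → t ∈ closure (Set.range z)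

section FrameD

variable {S : Type u} [Group S] {ι : Type*} {P : Subgroup S} {L : ι → Subgroup S} {z : ι → S}

/-- The frame for the subgroups containing `P` -/
theorem FrameD.frameIn (h : FrameD P L z) {H : Subgroup S} (hPH : P ≤ H) :
    FrameIn H P L (fun i => P ⊓ L i) z :=
  ⟨h.fund, h.syl, h.pg, hPH, fun _ => inf_le_left, h.sq, h.nonab⟩

theorem FrameD.mem (h : FrameD P L z) (i : ι) : z i ∈ P := by
  obtain ⟨y, hy, hyz⟩ := h.sq i
  rw [← hyz]
  exact P.mul_mem hy.1 hy.1

theorem map_inf' {G H : Type*} [Group G] [Group H] {f : G →* H} (hf : Function.Injective f) (A B : Subgroup G) :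
    A.map f ⊓ B.map f = (A ⊓ B).map f := (Subgroup.map_inf A B f hf).symm

/-- conjugate frames -/
theorem FrameD.conj [Finite S] (h : FrameD P L z) (g : S) :
    FrameD (P.map (MulAut.conj g).toMonoidHom) (fun i => (L i).map (MulAut.conj g).toMonoidHom)
      (fun i => g * z i * g⁻¹) := by
  have hinj : Function.Injective (MulAut.conj g).toMonoidHom := (MulAut.conj g).injective
  refine ⟨fun i => (h.fund i).conj g, fun i => ?_, h.pg.map _, fun i => ?_, fun i => ?_, fun i i' hne a ha b hb => ?_,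
    fun t ht hc => ?_⟩
  · rw [map_inf' hinj]
    exact (h.syl i).conj g
  · obtain ⟨y, hy, hyz⟩ := h.sq i
    rw [map_inf' hinj]
    refine ⟨_, conj_mem_map g hy, ?_⟩
    rw [← hyz]
    group
  · obtain ⟨a, ha, b, hb, hab⟩ := h.nonab i
    rw [map_inf' hinj]
    refine ⟨_, conj_mem_map g ha, _, conj_mem_map g hb, fun h1 => hab ?_⟩
    have e1 : g * a * g⁻¹ * (g * b * g⁻¹) = g * (a * b) * g⁻¹ := by group
    have e2 : g * b * g⁻¹ * (g * a * g⁻¹) = g * (b * a) * g⁻¹ := by group
    rw [e1, e2] at h1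
    exact mul_left_cancel (mul_right_cancel h1)
  · rw [mem_map_conj] at ha hb
    have h1 := h.comm i i' hne _ ha _ hb
    calc a * b = g * ((g⁻¹ * a * g) * (g⁻¹ * b * g)) * g⁻¹ := by group
      _ = g * ((g⁻¹ * b * g) * (g⁻¹ * a * g)) * g⁻¹ := by rw [h1]
      _ = b * a := by group
  · have h1 : g⁻¹ * t * g ∈ closure (Set.range z) := by
      apply h.inv
      · have h3 := orderOf_conj g⁻¹ t
        rw [inv_inv] at h3
        rw [h3, ht]
      · intro i l hl
        have h3 := hc i _ (conj_mem_map g hl)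
        calc g⁻¹ * t * g * l = g⁻¹ * (t * (g * l * g⁻¹)) * g := by group
          _ = g⁻¹ * ((g * l * g⁻¹) * t) * g := by rw [h3]
          _ = l * (g⁻¹ * t * g) := by group
    have h2 : (closure (Set.range z)).map (MulAut.conj g).toMonoidHom =
        closure (Set.range fun i => g * z i * g⁻¹) := by
      rw [MonoidHom.map_closure, ← Set.range_comp]
      rfl
    rw [← h2, mem_map_conj]
    exact h1

/-- the join of commuting 2-groups -/
theorem isPGroup_iSup [Finite S] [Finite ι] {Q : ι → Subgroup S} (hQ : ∀ i, IsPGroup 2 (Q i))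
    (hc : ∀ i i', i ≠ i' → ∀ a ∈ Q i, ∀ b ∈ Q i', a * b = b * a) : IsPGroup 2 (⨆ i, Q i : Subgroup S) := by
  classical
  have := Fintype.ofFinite ι
  have key : ∀ s : Finset ι, IsPGroup 2 (⨆ i ∈ s, Q i : Subgroup S) := by
    intro s
    induction s using Finset.induction_on with
    | empty =>
      have : (⨆ i ∈ (∅ : Finset ι), Q i) = ⊥ := by simp
      rw [this]
      exact IsPGroup.of_bot
    | insert a s ha ih =>
      rw [Finset.iSup_insert]
      refine isPGroup_sup (hQ a) ih ?_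
      have h1 : (⨆ i ∈ s, Q i) ≤ centralizer (Q a : Set S) := by
        refine iSup₂_le fun i hi => ?_
        intro b hb
        rw [mem_centralizer_iff]
        intro c hcc
        exact hc a i (fun h => ha (h ▸ hi)) c hcc b hb
      intro b hb x hx
      have h3 := mem_centralizer_iff.1 (h1 hb) x hx
      rw [← h3, mul_inv_cancel_right]
      exact hx
  have h1 := key Finset.univ
  have h2 : (⨆ i ∈ (Finset.univ : Finset ι), Q i) = ⨆ i, Q i := by simp
  rwa [h2] at h1

/-- **Frames exist.** -/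
theorem exists_frame [Finite S] [Finite ι] (hfund : ∀ i, Fund (L i) (z i))
    (hquat : ∀ i, ∀ Q, IsSyl Q (L i) → (∃ y ∈ Q, y * y = z i) ∧ ∃ a ∈ Q, ∃ b ∈ Q, a * b ≠ b * a)
    (hcomm : ∀ i i', i ≠ i' → ∀ a ∈ L i, ∀ b ∈ L i', a * b = b * a)
    (hinv : ∀ t : S, orderOf t = 2 → (∀ i, ∀ l ∈ L i, t * l = l * t) → t ∈ closure (Set.range z)) (P : Sylow 2 S) :
    ∃ g : S, FrameD (P : Subgroup S) (fun i => (L i).map (MulAut.conj g).toMonoidHom) (fun i => g * z i * g⁻¹) := by
  have h0 : ∀ i, ∃ Q, IsSyl Q (L i) := fun i => by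
    obtain ⟨Q, hQ, -⟩ := exists_isSyl (L i) ⊥ bot_le IsPGroup.of_bot
    exact ⟨Q, hQ⟩
  choose Q hQ using h0
  have h1 : IsPGroup 2 (⨆ i, Q i : Subgroup S) :=
    isPGroup_iSup (fun i => (hQ i).pg) fun i i' hne a ha b hb => hcomm i i' hne a ((hQ i).le ha) b ((hQ i').le hb)
  obtain ⟨P₀, hP₀⟩ := h1.exists_le_sylow
  have hF : FrameD (P₀ : Subgroup S) L z := by
    have hPL : ∀ i, (P₀ : Subgroup S) ⊓ L i = Q i := by
      intro i
      refine (hQ i).eq_of_le inf_le_right (P₀.isPGroup'.to_le inf_le_left) ?_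
      exact le_inf ((le_iSup Q i).trans hP₀) (hQ i).le
    exact ⟨hfund, fun i => by rw [hPL]; exact hQ i, P₀.isPGroup', fun i => by rw [hPL]; exact (hquat i _ (hQ i)).1,
      fun i => by rw [hPL]; exact (hquat i _ (hQ i)).2, hcomm, hinv⟩
  obtain ⟨g, hg⟩ := MulAction.exists_smul_eq S P₀ P
  refine ⟨g, ?_⟩
  have h3 := hF.conj g
  have h4 : (P₀ : Subgroup S).map (MulAut.conj g).toMonoidHom = (P : Subgroup S) := by
    rw [← hg, Sylow.coe_subgroup_smul]
    rfl
  rwa [h4] at h3

end FrameD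

end Cfsg.Agent.H808.RV
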