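import Cfsg.Agent.H808.RV.FTab

/-!
# Frames of fundamental subgroups: the roots with even pairing (helper808, TEAM RV, frame data)
-/

set_option autoImplicit false

namespace Cfsg.Agent.H808.RV

open Cfsg Cfsg.Lie

theorem tabA_F4 : ∀ r ∈ FF4, tabA chevF4 r = true := by decide +kernel
theorem tabA_E6 : ∀ r ∈ FE6, tabA chevE6 r = true := by decide +kernel
theorem tabA_E7 : ∀ r ∈ FE7, tabA chevE7 r = true := by decide +kernel

/-- the condition of `tabA` for one root `s` and all the roots of the frame (helper993: checked in blocks of 60 roots,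
for the memory of the checker) -/
def blkTabE8 (s : ℕ) : Bool := FE8.all fun r =>
  (prC chevE8 r s % 2 != 0) || (s == r) || (s == chevE8.neg r) || orth chevE8 r s

theorem blkTabE8_0 : (List.range' 0 60).all blkTabE8 = true := by decide +kernel
theorem blkTabE8_1 : (List.range' 60 60).all blkTabE8 = true := by decide +kernel
theorem blkTabE8_2 : (List.range' 120 60).all blkTabE8 = true := by decide +kernel
theorem blkTabE8_3 : (List.range' 180 60).all blkTabE8 = true := by decide +kernel

theorem blkTabE8_all (s : ℕ) (hs : s < 240) : blkTabE8 s = true := by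
  have key : ∀ a, (List.range' a 60).all blkTabE8 = true → a ≤ s → s < a + 60 → blkTabE8 s = true := fun a h h1 h2 =>
    List.all_eq_true.1 h s (List.mem_range'_1.2 ⟨h1, h2⟩)
  by_cases h1 : s < 60
  · exact key 0 blkTabE8_0 (Nat.zero_le s) (by omega)
  by_cases h2 : s < 120
  · exact key 60 blkTabE8_1 (by omega) (by omega)
  by_cases h3 : s < 180
  · exact key 120 blkTabE8_2 (by omega) (by omega)
  · exact key 180 blkTabE8_3 (by omega) (by omega)

theorem tabA_E8 : ∀ r ∈ FE8, tabA chevE8 r = true := by
  intro r hr
  unfold tabA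
  rw [List.all_eq_true]
  intro s hs
  exact List.all_eq_true.1 (blkTabE8_all s (List.mem_range.1 hs)) r hr

theorem tabB_F4 : ∀ r ∈ FF4, tabB chevF4 r = true := by decide +kernel
theorem tabB_E6 : ∀ r ∈ FE6, tabB chevE6 r = true := by decide +kernel
theorem tabB_E7 : ∀ r ∈ FE7, tabB chevE7 r = true := by decide +kernel
theorem tabB_E8 : ∀ r ∈ FE8, tabB chevE8 r = true := by decide +kernel

end Cfsg.Agent.H808.RV
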