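import Cfsg.Agent.H808.RV.FSL
import Cfsg.Agent.H3.OT.Weyl
import Cfsg.Agent.KFacts.Mult.Chev

/-!
# Frames of fundamental subgroups: root `SL₂` in the Chevalley groups (helper808, TEAM RV, frame data)

* `prC` the pairing, computably; `cmm`, `orth`, `tabA`, `tabB` : Boolean tables;
* `psi_injective`; `psi_comm`; `cent_norm` : `C_G(h_r(-1))` normalises `⟨X_r, X_{-r}⟩` if `tabA`, `tabB`;
* `chi_vec`, `tor_ext` : the elements of the torus and their values on the fundamental roots.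
-/

set_option autoImplicit false
set_option linter.unusedSectionVars false

namespace Cfsg.Agent.H808.RV

open Subgroup Cfsg Cfsg.Lie Cfsg.Lie.ChevalleyDatum Cfsg.Agent.ChevalleyStructure
  Cfsg.Agent.ChevalleyStructure.Elts Cfsg.Agent.ChevalleyStructure.NPerm Cfsg.Agent.ChevalleyStructure.CoxeterGeom
  Cfsg.Agent.ChevalleyStructure.RootVec
  Cfsg.Agent.Nodes.RGDChev Cfsg.Agent.H412.OT Cfsg.Agent.H3.OT Cfsg.Agent.Nodes.Reps
  Cfsg.Agent.Tits.Roots Cfsg.Agent.Tits.Core
open Cfsg.Agent.Nodes.RGDFoldSL (wS hS coe_wS coe_hS psi psi_up psi_lo psi_hS)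
open Cfsg.Agent.ChevalleyStructure.SL2Hom (up lo mem_closure_SL2)

universe u v w

/-! ### tables -/

/-- the pairing, computably -/
def prC (D : ChevalleyDatum) (r s : ℕ) : ℤ :=
  ((List.range D.rank).map fun i => (D.coroot.getD r #[]).getD i 0 * D.cartan i s).sum

theorem pr_eq (D : ChevalleyDatum) (r s : ℕ) : pr D r s = prC D r s := rfl

/-- `X_b` commutes with `X_a` -/
def cmm (D : ChevalleyDatum) (a b : ℕ) : Bool := (b != a) && (b != D.neg a) && (D.commTerms a b).isEmpty

/-- `X_b` commutes with `X_a`, `X_{-a}` -/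
def orth (D : ChevalleyDatum) (a b : ℕ) : Bool := cmm D a b && cmm D (D.neg a) b

/-- the roots with even pairing -/
def tabA (D : ChevalleyDatum) (r : ℕ) : Bool :=
  (List.range D.nroots).all fun s => (prC D r s % 2 != 0) || (s == r) || (s == D.neg r) || orth D r s

/-- the roots with the same parities -/
def tabB (D : ChevalleyDatum) (r : ℕ) : Bool :=
  (List.range D.nroots).all fun r' => (r' == r) || (r' == D.neg r) ||
    (List.range D.rank).any fun j => (prC D r' (D.simple j) - prC D r (D.simple j)) % 2 != 0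

/-! ### root elements -/

section Basic

variable {D : ChevalleyDatum} (hD : InList D) {K : Type u} [Field K]

include hD in
theorem xG_disj {r s : ℕ} (hr : r < D.nroots) (hs : s < D.nroots) (hrs : s ≠ r) {a b : K}
    (h : xG hD r a = xG hD s b) : a = 0 := by
  have h1 := congrArg (fun g : GL D.Idx K => (g : Matrix D.Idx D.Idx K) (Sum.inr ⟨r, hr⟩)
    (Sum.inr ⟨D.neg r, neg_lt hD hr⟩)) h
  simp only [coe_xG] at h1
  rw [x_entry_self hD hr, x_entry_ne hD hr hs hrs] at h1
  exact pow_eq_zero_iff (two_ne_zero) |>.1 (neg_eq_zero.1 h1)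

/-- conjugation of the root `SL₂` -/
theorem conj_psi {r : ℕ} (hr : r < D.nroots) {R : Subgroup (GL D.Idx K)} {g : GL D.Idx K}
    (h1 : ∀ a, g * xG hD r a * g⁻¹ ∈ R) (h2 : ∀ a, g * xG hD (D.neg r) a * g⁻¹ ∈ R)
    (A : Matrix.SpecialLinearGroup (Fin 2) K) : g * psi hD K r A * g⁻¹ ∈ R := by
  have h3 : A ∈ (R.comap (MulAut.conj g).toMonoidHom).comap (psi hD K r) := by
    refine (Subgroup.closure_le _).2 ?_ (mem_closure_SL2 A)
    rintro _ (⟨t, rfl⟩ | ⟨t, rfl⟩)
    · show g * psi hD K r (up t) * g⁻¹ ∈ R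
      rw [psi_up hD hr]; exact h1 t
    · show g * psi hD K r (lo t) * g⁻¹ ∈ R
      rw [psi_lo hD hr]; exact h2 t
  exact h3

theorem xG_mem_range {r : ℕ} (hr : r < D.nroots) (t : K) : xG hD r t ∈ (psi hD K r).range :=
  ⟨up t, psi_up hD hr t⟩

theorem xG_neg_mem_range {r : ℕ} (hr : r < D.nroots) (t : K) : xG hD (D.neg r) t ∈ (psi hD K r).range :=
  ⟨lo t, psi_lo hD hr t⟩

theorem psi_mem_group {r : ℕ} (hr : r < D.nroots) (A : Matrix.SpecialLinearGroup (Fin 2) K) :
    psi hD K r A ∈ D.group K := by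
  have h := conj_psi (K := K) hD hr (R := D.group K) (g := 1)
    (fun a => by rw [one_mul, inv_one, mul_one]; exact xG_mem_group hD _ _)
    (fun a => by rw [one_mul, inv_one, mul_one]; exact xG_mem_group hD _ _) A
  rwa [one_mul, inv_one, mul_one] at h

include hD in
theorem neg_neg_eq' {r : ℕ} (hr : r < D.nroots) : D.neg (D.neg r) = r := by
  have h1 := Unitriangular.neg_add (Unitriangular.orderCheck_of_mem hD) hr
  have h2 := Unitriangular.neg_add (Unitriangular.orderCheck_of_mem hD) (neg_lt hD hr)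
  omega

theorem cmm_comm {a b : ℕ} (ha : a < D.nroots) (hb : b < D.nroots) (h : cmm D a b = true) (t u : K) :
    xG hD b u * xG hD a t = xG hD a t * xG hD b u := by
  obtain ⟨l, M, hp⟩ := exists_isType hD
  unfold cmm at h
  simp only [Bool.and_eq_true, bne_iff_ne, ne_eq] at h
  exact KFacts.Mult.Chev.commute_of_empty hp ha hb h.1.1 h.1.2 h.2 t u

/-- `X_b` centralises the root `SL₂` of `a` -/
theorem orth_comm {a b : ℕ} (ha : a < D.nroots) (hb : b < D.nroots) (h : orth D a b = true) (u : K)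
    (A : Matrix.SpecialLinearGroup (Fin 2) K) : xG hD b u * psi hD K a A = psi hD K a A * xG hD b u := by
  unfold orth at h
  rw [Bool.and_eq_true] at h
  have h3 : A ∈ (centralizer {xG hD b u}).comap (psi hD K a) := by
    refine (Subgroup.closure_le _).2 ?_ (mem_closure_SL2 A)
    rintro _ (⟨t, rfl⟩ | ⟨t, rfl⟩)
    · show psi hD K a (up t) ∈ centralizer {xG hD b u}
      rw [psi_up hD ha, mem_centralizer_singleton_iff]
      exact (cmm_comm hD ha hb h.1 t u).symm
    · show psi hD K a (lo t) ∈ centralizer {xG hD b u}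
      rw [psi_lo hD ha, mem_centralizer_singleton_iff]
      exact (cmm_comm hD (neg_lt hD ha) hb h.2 t u).symm
  exact (mem_centralizer_singleton_iff.1 (Subgroup.mem_comap.1 h3)).symm

/-- strongly orthogonal root `SL₂` commute -/
theorem psi_comm {a b : ℕ} (ha : a < D.nroots) (hb : b < D.nroots) (h : orth D a b = true)
    (h' : orth D a (D.neg b) = true) (A B : Matrix.SpecialLinearGroup (Fin 2) K) :
    psi hD K a A * psi hD K b B = psi hD K b B * psi hD K a A := by
  have h3 : B ∈ (centralizer {psi hD K a A}).comap (psi hD K b) := by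
    refine (Subgroup.closure_le _).2 ?_ (mem_closure_SL2 B)
    rintro _ (⟨t, rfl⟩ | ⟨t, rfl⟩)
    · show psi hD K b (up t) ∈ centralizer {psi hD K a A}
      rw [psi_up hD hb, mem_centralizer_singleton_iff]
      exact orth_comm hD ha hb h t A
    · show psi hD K b (lo t) ∈ centralizer {psi hD K a A}
      rw [psi_lo hD hb, mem_centralizer_singleton_iff]
      exact orth_comm hD ha (neg_lt hD hb) h' t A
  exact (mem_centralizer_singleton_iff.1 (Subgroup.mem_comap.1 h3)).symm

theorem neg_one_zpow_eq (h2 : (2 : K) ≠ 0) {n : ℤ} (h : (-1 : K) ^ n = 1) : n % 2 = 0 := by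
  rcases Int.even_or_odd n with h1 | h1
  · exact Int.even_iff.1 h1
  · exfalso
    rw [h1.neg_one_zpow] at h
    apply h2
    linear_combination -h

theorem neg_one_zpow_congr (h2 : (2 : K) ≠ 0) {m n : ℤ} (h : (-1 : K) ^ m = (-1 : K) ^ n) : (m - n) % 2 = 0 := by
  apply neg_one_zpow_eq h2
  rw [zpow_sub₀ (neg_ne_zero.2 one_ne_zero), h, div_self (zpow_ne_zero _ (neg_ne_zero.2 one_ne_zero))]

/-- `ψ_r` is injective if some root has odd pairing with `r` -/
theorem psi_injective (h2 : (2 : K) ≠ 0) (h4 : 4 ≤ Nat.card K) {r s : ℕ} (hr : r < D.nroots)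
    (hs : s < D.nroots) (hodd : prC D r s % 2 ≠ 0) : Function.Injective (psi hD K r) := by
  rw [← MonoidHom.ker_eq_bot_iff, eq_bot_iff]
  have hqs := Cfsg.Agent.SignalizersComponents.SLQuasisimple.isQuasisimple_two (F := K) h4
  rcases Cfsg.Agent.SignalizersComponents.Components.quasisimple_normal hqs (psi hD K r).ker inferInstance with h | h
  · exfalso
    have h1 : up (1 : K) ∈ (psi hD K r).ker := by rw [h]; exact mem_top _
    rw [MonoidHom.mem_ker, psi_up hD hr, ← xG_zero hD r] at h1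
    exact one_ne_zero (xG_injective hD hr h1)
  · intro A hA
    rw [Subgroup.mem_bot]
    by_contra hne
    have h1 := eq_hS h2 (sq_of_center (h hA)) hne
    rw [h1, MonoidHom.mem_ker, psi_hS hD hr] at hA
    have h5 := chi_hG hD hr hs (c := (-1 : K)) (neg_ne_zero.2 one_ne_zero)
    rw [hA, chi_one] at h5
    exact hodd (neg_one_zpow_eq h2 h5.symm)

/-! ### the centraliser of `h_r(-1)` -/

theorem range_conj {R : Subgroup (GL D.Idx K)} {r : ℕ} (hr : r < D.nroots) {g : GL D.Idx K}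
    (h1 : ∀ a, g * xG hD r a * g⁻¹ ∈ R) (h2 : ∀ a, g * xG hD (D.neg r) a * g⁻¹ ∈ R) :
    ∀ x ∈ (psi hD K r).range, g * x * g⁻¹ ∈ R := by
  rintro _ ⟨A, rfl⟩
  exact conj_psi hD hr h1 h2 A

theorem tor_norm {r : ℕ} (hr : r < D.nroots) {t : GL D.Idx K} (ht : t ∈ D.diagonalSubgroup K) :
    ∀ x ∈ (psi hD K r).range, t * x * t⁻¹ ∈ (psi hD K r).range := by
  refine range_conj hD hr (fun a => ?_) (fun a => ?_)
  · rw [tor_conj_xG hD ht hr]
    exact xG_mem_range hD hr _
  · rw [tor_conj_xG hD ht (neg_lt hD hr)]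
    exact xG_neg_mem_range hD hr _

theorem even_root_norm {r s : ℕ} (hr : r < D.nroots) (hs : s < D.nroots)
    (h : s = r ∨ s = D.neg r ∨ orth D r s = true) (u : K) :
    ∀ x ∈ (psi hD K r).range, xG hD s u * x * (xG hD s u)⁻¹ ∈ (psi hD K r).range := by
  intro x hx
  rcases h with rfl | rfl | h
  · exact mul_mem (mul_mem (xG_mem_range hD hr u) hx) (inv_mem (xG_mem_range hD hr u))
  · exact mul_mem (mul_mem (xG_neg_mem_range hD hr u) hx) (inv_mem (xG_neg_mem_range hD hr u))
  · obtain ⟨A, rfl⟩ := hx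
    rw [orth_comm hD hr hs h u A, mul_inv_cancel_right]
    exact ⟨A, rfl⟩

theorem gs_norm {r : ℕ} (hr : r < D.nroots) {S : Set ℕ}
    (hS : ∀ s ∈ S, s < D.nroots ∧ (s = r ∨ s = D.neg r ∨ orth D r s = true)) {u : GL D.Idx K}
    (hu : u ∈ GS D K S) : ∀ x ∈ (psi hD K r).range, u * x * u⁻¹ ∈ (psi hD K r).range := by
  have h1 : GS D K S ≤ normalizer ((psi hD K r).range : Set (GL D.Idx K)) := by
    refine sup_le ?_ (iSup₂_le fun s hs => ?_)
    · exact H102.RV.le_normalizer_of fun t ht x hx => tor_norm hD hr ht x hx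
    · refine H102.RV.le_normalizer_of fun t ht x hx => ?_
      obtain ⟨a, rfl⟩ := (mem_rootSubgroup_iff hD s t).1 ht
      exact even_root_norm hD hr (hS s hs).1 (hS s hs).2 a x hx
  exact fun x hx => (mem_normalizer_iff.1 (h1 hu) x).1 hx

theorem tabA_spec {r : ℕ} (h : tabA D r = true) {s : ℕ} (hs : s < D.nroots) (h0 : prC D r s % 2 = 0) :
    s = r ∨ s = D.neg r ∨ orth D r s = true := by
  unfold tabA at h
  have h1 := List.all_eq_true.1 h s (List.mem_range.2 hs)
  simp only [Bool.or_eq_true, bne_iff_ne, ne_eq, beq_iff_eq] at h1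
  tauto

theorem tabB_spec {r : ℕ} (h : tabB D r = true) {r' : ℕ} (hr' : r' < D.nroots)
    (h0 : ∀ j < D.rank, (prC D r' (D.simple j) - prC D r (D.simple j)) % 2 = 0) : r' = r ∨ r' = D.neg r := by
  unfold tabB at h
  have h1 := List.all_eq_true.1 h r' (List.mem_range.2 hr')
  simp only [Bool.or_eq_true, beq_iff_eq, List.any_eq_true, List.mem_range, bne_iff_ne, ne_eq] at h1
  rcases h1 with (h1 | h1) | ⟨j, hj, h1⟩
  · exact Or.inl h1
  · exact Or.inr h1
  · exact absurd (h0 j hj) h1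

/-- the elements of `N` centralising `h_r(-1)` fix `± r` -/
theorem perm_of_comm (h2 : (2 : K) ≠ 0) {r : ℕ} (hr : r < D.nroots) (hB : tabB D r = true)
    (n : ↥(D.monomialSubgroup K)) (hn : (n : GL D.Idx K) * hG hD r (-1 : K) = hG hD r (-1 : K) * (n : GL D.Idx K)) :
    ((permHom hD K n ⟨r, hr⟩ : Fin D.nroots) : ℕ) = r ∨ ((permHom hD K n ⟨r, hr⟩ : Fin D.nroots) : ℕ) = D.neg r := by
  have hm1 : (-1 : K) ≠ 0 := neg_ne_zero.2 one_ne_zero
  have hz := hG_mem hD hr hm1
  refine tabB_spec hB (Fin.is_lt _) fun j hj => ?_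
  obtain ⟨s, hs⟩ : ∃ s, s = (permHom hD K n)⁻¹ ⟨D.simple j, simple_lt hD hj⟩ := ⟨_, rfl⟩
  have h1 : permHom hD K n s = ⟨D.simple j, simple_lt hD hj⟩ := by rw [hs]; exact Equiv.apply_symm_apply _ _
  have h3 := chi_perm hD n hz s
  have e : (n : GL D.Idx K) * hG hD r (-1) * (n : GL D.Idx K)⁻¹ = hG hD r (-1) := by rw [hn, mul_inv_cancel_right]
  rw [e, chi_hG hD hr (Fin.is_lt _) hm1, chi_hG hD hr s.2 hm1] at h3
  have h4 := pr_perm hD n ⟨r, hr⟩ s
  rw [h1] at h3 h4
  have h5 := neg_one_zpow_congr h2 h3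
  simp only at h4
  rw [← h4] at h5
  rw [pr_eq, pr_eq] at h5
  simp only at h5
  omega

include hD in
theorem perm_neg (n : ↥(D.monomialSubgroup K)) {r : ℕ} (hr : r < D.nroots) :
    ((permHom hD K n ⟨D.neg r, neg_lt hD hr⟩ : Fin D.nroots) : ℕ) =
      D.neg ((permHom hD K n ⟨r, hr⟩ : Fin D.nroots) : ℕ) := by
  obtain ⟨l, M, hp⟩ := exists_isType hD
  let cs : CoxeterSystem M M.Group := M.toCoxeterSystem
  obtain ⟨w, hw⟩ := exists_rep hp cs n
  apply vec_inj hp (Fin.is_lt _) (neg_lt hD (Fin.is_lt _))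
  rw [vec_neg hp (Fin.is_lt _)]
  have h1 := hw ⟨D.neg r, neg_lt hD hr⟩
  have h2 := hw ⟨r, hr⟩
  simp only at h1 h2
  rw [h1, h2, vec_neg hp hr, map_neg]

theorem mono_norm (h2 : (2 : K) ≠ 0) {r : ℕ} (hr : r < D.nroots) (hB : tabB D r = true) {n : GL D.Idx K}
    (hnN : n ∈ D.monomialSubgroup K) (hn : n * hG hD r (-1) = hG hD r (-1) * n) :
    ∀ x ∈ (psi hD K r).range, n * x * n⁻¹ ∈ (psi hD K r).range := by
  have h1 := perm_of_comm hD h2 hr hB ⟨n, hnN⟩ hn
  have hneg := neg_lt hD hr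
  -- `n` maps `-r` to the negative of the image of `r`
  have key : ∀ s (hs : s < D.nroots), (s = r ∨ s = D.neg r) →
      (((permHom hD K ⟨n, hnN⟩ ⟨s, hs⟩ : Fin D.nroots) : ℕ) = r ∨
        ((permHom hD K ⟨n, hnN⟩ ⟨s, hs⟩ : Fin D.nroots) : ℕ) = D.neg r) := by
    rintro s hs (rfl | rfl)
    · exact h1
    · rw [perm_neg hD _ hr]
      rcases h1 with h | h <;> rw [h]
      · exact Or.inr rfl
      · exact Or.inl (neg_neg_eq' hD hr)
  refine range_conj hD hr (fun a => ?_) (fun a => ?_)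
  · obtain ⟨c, -, hc⟩ := conj_xG hD ⟨n, hnN⟩ ⟨r, hr⟩
    have h3 := hc a
    simp only at h3
    rw [h3]
    rcases key r hr (Or.inl rfl) with h | h <;> rw [h]
    · exact xG_mem_range hD hr _
    · exact xG_neg_mem_range hD hr _
  · obtain ⟨c, -, hc⟩ := conj_xG hD ⟨n, hnN⟩ ⟨D.neg r, hneg⟩
    have h3 := hc a
    simp only at h3
    rw [h3]
    rcases key _ hneg (Or.inr rfl) with h | h <;> rw [h]
    · exact xG_mem_range hD hr _
    · exact xG_neg_mem_range hD hr _

/-- **`C_G(h_r(-1))` normalises the root `SL₂`.** -/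
theorem cent_norm [Finite K] (h2 : (2 : K) ≠ 0) {r : ℕ} (hr : r < D.nroots) (hA : tabA D r = true)
    (hB : tabB D r = true) {g : GL D.Idx K} (hg : g ∈ D.group K) (hgz : g * hG hD r (-1) = hG hD r (-1) * g) :
    ∀ x ∈ (psi hD K r).range, g * x * g⁻¹ ∈ (psi hD K r).range := by
  have hm1 : (-1 : K) ≠ 0 := neg_ne_zero.2 one_ne_zero
  have hz := hG_mem hD hr hm1
  have hZ : zpowers (hG hD r (-1 : K)) ≤ D.diagonalSubgroup K := by rw [zpowers_le]; exact hz
  have hc : g ∈ centralizer (zpowers (hG hD r (-1 : K)) : Set (GL D.Idx K)) := by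
    rw [mem_centralizer_iff]
    intro x hx
    obtain ⟨n, rfl⟩ := mem_zpowers_iff.1 hx
    exact ((show Commute g (hG hD r (-1 : K)) from hgz).zpow_right n).symm
  obtain ⟨u, hu, k, hk, hkc, v, hv, rfl⟩ := cent_form hD hZ hg hc
  have hS : ∀ s ∈ PsiZ D K (zpowers (hG hD r (-1 : K))), s < D.nroots ∧ (s = r ∨ s = D.neg r ∨ orth D r s = true) := by
    intro s hs
    refine ⟨hs.1, tabA_spec hA hs.1 ?_⟩
    have h3 := hs.2 _ (mem_zpowers _)
    rw [chi_hG hD hr hs.1 hm1] at h3
    exact neg_one_zpow_eq h2 h3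
  have hkz : k * hG hD r (-1) = hG hD r (-1) * k := (mem_centralizer_iff.1 hkc _ (mem_zpowers _)).symm
  intro x hx
  have h1 := gs_norm hD hr hS hv x hx
  have h3 := mono_norm hD h2 hr hB hk hkz _ h1
  have h5 := gs_norm hD hr hS hu _ h3
  have e : u * k * v * x * (u * k * v)⁻¹ = u * (k * (v * x * v⁻¹) * k⁻¹) * u⁻¹ := by group
  rw [e]
  exact h5

end Basic

/-! ### the torus -/

section Tor

variable {D : ChevalleyDatum} {l : ℕ} {M : CoxeterMatrix (Fin l)} (hp : IsType D l M) {K : Type u} [Field K]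

theorem prod_zpow {ι : Type*} (s : Finset ι) (c : K) (hc : c ≠ 0) (f : ι → ℤ) :
    ∏ i ∈ s, c ^ f i = c ^ ∑ i ∈ s, f i := by
  classical
  induction s using Finset.induction_on with
  | empty => simp
  | insert a s ha ih => rw [Finset.prod_insert ha, Finset.sum_insert ha, ih, zpow_add₀ hc]

include hp in
/-- the characters on the fundamental roots determine the others -/
theorem chi_vec {t : GL D.Idx K} (ht : t ∈ D.diagonalSubgroup K) {s : ℕ} (hs : s < D.nroots) :
    chi D K t s = ∏ j : Fin l, chi D K t (D.simple j) ^ vec D l s j := by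
  obtain ⟨c, hc, e, -⟩ := tor_data hp.inList ht
  have key : ∀ s < D.nroots, chi D K t s = ∏ i ∈ Finset.range D.rank, c i ^ D.cartan i s := by
    intro s hs
    rw [chi, dif_pos hs, e, Matrix.diagonal_apply_eq, Sum.elim_inr]
  rw [key s hs]
  have h1 : ∀ j : Fin l, chi D K t (D.simple j) ^ vec D l s j =
      ∏ i ∈ Finset.range D.rank, c i ^ (vec D l s j * D.cartan i (D.simple j)) := by
    intro j
    rw [key _ (simple_lt hp.inList (lt_rank hp j)), ← Finset.prod_zpow]
    refine Finset.prod_congr rfl fun i _ => ?_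
    rw [← zpow_mul, mul_comm]
  rw [Finset.prod_congr rfl fun j _ => h1 j, Finset.prod_comm]
  refine Finset.prod_congr rfl fun i hi => ?_
  have hi' := Finset.mem_range.1 hi
  rw [prod_zpow _ _ (hc i hi')]
  congr 1
  rw [cartan_eq_sum hp.checked hi' hs, hp.rank_eq, ← Fin.sum_univ_eq_sum_range
    (fun j => rt D s j * D.cartan i (D.simple j))]
  rfl

include hp in
/-- the elements of the torus are determined by the characters on the fundamental roots -/
theorem tor_ext {t t' : GL D.Idx K} (ht : t ∈ D.diagonalSubgroup K) (ht' : t' ∈ D.diagonalSubgroup K)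
    (h : ∀ j : Fin l, chi D K t (D.simple j) = chi D K t' (D.simple j)) : t = t' := by
  apply Units.ext
  rw [coe_tor hp.inList ht, coe_tor hp.inList ht']
  congr 1
  funext x
  rcases x with i | s
  · rfl
  · rw [Sum.elim_inr, Sum.elim_inr, chi_vec hp ht s.2, chi_vec hp ht' s.2]
    exact Finset.prod_congr rfl fun j _ => by rw [h j]

/-- `Σ` of the pairings with the roots of a list -/
def sumP (D : ChevalleyDatum) (I : List ℕ) (s : ℕ) : ℤ := (I.map fun r => prC D r s).sum

/-- the product of the involutions `h_r(-1)` -/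
noncomputable def zP (hD : InList D) (K : Type u) [Field K] (I : List ℕ) : GL D.Idx K :=
  (I.map fun r => hG hD r (-1 : K)).prod

theorem zP_mem (I : List ℕ) (hI : ∀ r ∈ I, r < D.nroots) : zP hp.inList K I ∈ D.diagonalSubgroup K := by
  refine list_prod_mem fun x hx => ?_
  obtain ⟨r, hr, rfl⟩ := List.mem_map.1 hx
  exact hG_mem hp.inList (hI r hr) (neg_ne_zero.2 one_ne_zero)

theorem chi_zP (I : List ℕ) (hI : ∀ r ∈ I, r < D.nroots) {s : ℕ} (hs : s < D.nroots) :
    chi D K (zP hp.inList K I) s = (-1 : K) ^ sumP D I s := by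
  have hm1 : (-1 : K) ≠ 0 := neg_ne_zero.2 one_ne_zero
  induction I with
  | nil =>
    have h1 : zP hp.inList K [] = 1 := rfl
    have h2 : sumP D [] s = 0 := rfl
    rw [h1, chi_one, h2, zpow_zero]
  | cons r I ih =>
    have hr : r < D.nroots := hI r List.mem_cons_self
    have hI' : ∀ r ∈ I, r < D.nroots := fun a ha => hI a (List.mem_cons_of_mem _ ha)
    have h1 : zP hp.inList K (r :: I) = hG hp.inList r (-1 : K) * zP hp.inList K I := by
      unfold zP; rw [List.map_cons, List.prod_cons]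
    have h2 : sumP D (r :: I) s = prC D r s + sumP D I s := by
      unfold sumP; rw [List.map_cons, List.sum_cons]
    rw [h1, chi_mul hp.inList (hG_mem hp.inList hr hm1) (zP_mem hp I hI'), ih hI', chi_hG hp.inList hr hs hm1, h2,
      zpow_add₀ hm1, pr_eq]

theorem neg_one_zpow_of_even {K : Type u} [Field K] {n : ℤ} (h : n % 2 = 0) : (-1 : K) ^ n = 1 :=
  (Int.even_iff.2 h).neg_one_zpow

/-- relations between the involutions -/
theorem zP_eq_one {I : List ℕ} (hI : ∀ r ∈ I, r < D.nroots) (h : ∀ j : Fin l, sumP D I (D.simple j) % 2 = 0) :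
    zP hp.inList K I = 1 := by
  refine tor_ext hp (zP_mem hp I hI) (one_mem _) fun j => ?_
  rw [chi_zP hp I hI (simple_lt hp.inList (lt_rank hp j)), chi_one, neg_one_zpow_of_even (h j)]

theorem zP_ne_one (h2 : (2 : K) ≠ 0) {I : List ℕ} (hI : ∀ r ∈ I, r < D.nroots) {j : Fin l}
    (h : sumP D I (D.simple j) % 2 ≠ 0) : zP hp.inList K I ≠ 1 := by
  intro h1
  have h3 := chi_zP (K := K) hp I hI (simple_lt hp.inList (lt_rank hp j))
  rw [h1, chi_one] at h3
  exact h (neg_one_zpow_eq h2 h3.symm)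

/-! ### the involutions centralising a frame -/

/-- every root has a nonzero pairing with some root of the list -/
def tabC (D : ChevalleyDatum) (F : List ℕ) : Bool :=
  (List.range D.nroots).all fun s => F.any fun r => (prC D r s != 0) && decide (prC D r s ≤ 3) && decide (-3 ≤ prC D r s)

theorem tabC_spec {F : List ℕ} (h : tabC D F = true) {s : ℕ} (hs : s < D.nroots) :
    ∃ r ∈ F, prC D r s ≠ 0 ∧ prC D r s ≤ 3 ∧ -3 ≤ prC D r s := by
  unfold tabC at h
  have h1 := List.all_eq_true.1 h s (List.mem_range.2 hs)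
  simp only [List.any_eq_true, Bool.and_eq_true, bne_iff_ne, ne_eq, decide_eq_true_iff] at h1
  obtain ⟨r, hr, ⟨h3, h4⟩, h5⟩ := h1
  exact ⟨r, hr, h3, h4, h5⟩

/-- a field element of large order -/
theorem exists_big {E : Type w} [Field E] [Finite E] (h5 : 5 ≤ Nat.card E) : ∃ c : E, c ≠ 0 ∧ ∀ n : ℤ, n ≠ 0 → n ≤ 3 →
    -3 ≤ n → c ^ n ≠ 1 := by
  obtain ⟨g, hg⟩ := IsCyclic.exists_generator (α := Eˣ)
  have h1 : orderOf g = Nat.card E - 1 := by
    rw [orderOf_eq_card_of_forall_mem_zpowers hg, Nat.card_units]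
  refine ⟨g, g.ne_zero, fun n hn h3 h3' h => ?_⟩
  have h6 : g ^ n = 1 := by
    apply Units.ext
    rw [Units.val_zpow_eq_zpow_val, h, Units.val_one]
  have h7 := orderOf_dvd_iff_zpow_eq_one.2 h6
  rw [h1] at h7
  have h8 := Int.le_of_dvd (b := |n|) (abs_pos.2 hn) ((dvd_abs _ _).2 h7)
  have h9 : |n| ≤ 3 := abs_le.2 ⟨h3', h3⟩
  omega

/-- parities: every homomorphism to `± 1` trivial on the roots of the list is a product of the `h_r(-1)` -/
def TabE (D : ChevalleyDatum) (l : ℕ) (F : List ℕ) (Sub : List (List ℕ)) : Prop :=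
  ∀ a : Fin l → Bool, (∀ r ∈ F, (∑ j, if a j then vec D l r j else 0) % 2 = 0) →
    ∃ I ∈ Sub, ∀ j : Fin l, ((if a j then 1 else 0) - sumP D I (D.simple j)) % 2 = 0

theorem perm_fix (hD : InList D) {r : ℕ} (hr : r < D.nroots) {t : GL D.Idx K} (htN : t ∈ D.monomialSubgroup K)
    (ht : t * xG hD r (1 : K) = xG hD r 1 * t) : permHom hD K ⟨t, htN⟩ ⟨r, hr⟩ = ⟨r, hr⟩ := by
  obtain ⟨c, hc0, hc⟩ := conj_xG hD ⟨t, htN⟩ ⟨r, hr⟩
  have h1 := hc 1
  simp only at h1
  rw [ht, mul_inv_cancel_right] at h1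
  by_contra hne
  have h3 : ((permHom hD K ⟨t, htN⟩ ⟨r, hr⟩ : Fin D.nroots) : ℕ) ≠ r := fun h => hne (Fin.ext h)
  exact one_ne_zero (xG_disj hD hr (Fin.is_lt _) h3 h1)

theorem inv_form [Finite K] (h2 : (2 : K) ≠ 0) {E : Subfield K} (h5 : 5 ≤ Nat.card E) {F : List ℕ}
    (hF : ∀ r ∈ F, r < D.nroots) (hC : tabC D F = true)
    (hfix : ∀ n : ↥(D.monomialSubgroup K), (∀ r (hr : r ∈ F), permHom hp.inList K n ⟨r, hF r hr⟩ = ⟨r, hF r hr⟩) →
      permHom hp.inList K n = 1) {Sub : List (List ℕ)} (hSub : ∀ I ∈ Sub, ∀ r ∈ I, r < D.nroots)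
    (hE : TabE D l F Sub) {t : GL D.Idx K} (htG : t ∈ D.group K) (htt : t * t = 1)
    (hx : ∀ r ∈ F, t * xG hp.inList r (1 : K) = xG hp.inList r 1 * t)
    (hh : ∀ r ∈ F, ∀ c ∈ E, c ≠ 0 → t * hG hp.inList r c = hG hp.inList r c * t) :
    ∃ I ∈ Sub, t = zP hp.inList K I := by
  have hD := hp.inList
  let Z : Subgroup (GL D.Idx K) := closure {x | ∃ r ∈ F, ∃ c ∈ E, c ≠ 0 ∧ x = hG hD r c}
  have hZ : Z ≤ D.diagonalSubgroup K := by
    rw [closure_le]
    rintro _ ⟨r, hr, c, -, hc, rfl⟩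
    exact hG_mem hD (hF r hr) hc
  have hcen : t ∈ centralizer (Z : Set (GL D.Idx K)) := by
    rw [mem_centralizer_iff]
    intro x hxZ
    have h1 : Z ≤ centralizer {t} := by
      rw [closure_le]
      rintro _ ⟨r, hr, c, hcE, hc, rfl⟩
      rw [SetLike.mem_coe, mem_centralizer_singleton_iff]
      exact (hh r hr c hcE hc).symm
    exact mem_centralizer_singleton_iff.1 (h1 hxZ)
  have hPsi : PsiZ D K Z = ∅ := by
    rw [Set.eq_empty_iff_forall_notMem]
    intro s hs
    obtain ⟨r, hr, h0, h3, h3'⟩ := tabC_spec hC hs.1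
    obtain ⟨c, hc0, hc⟩ := exists_big h5
    have hcK : (c : K) ≠ 0 := fun h => hc0 (Subtype.ext h)
    have h6 := hs.2 _ (subset_closure ⟨r, hr, c, c.2, hcK, rfl⟩)
    rw [chi_hG hD (hF r hr) hs.1 hcK] at h6
    refine hc (prC D r s) h0 h3 h3' (Subtype.ext ?_)
    rw [← pr_eq]
    push_cast
    exact h6
  have hGS : GS D K (PsiZ D K Z) ≤ D.diagonalSubgroup K := by
    rw [hPsi]
    refine sup_le le_rfl (iSup₂_le fun r hr => absurd hr (Set.notMem_empty r))
  obtain ⟨u, hu, k, hk, -, v, hv, e⟩ := cent_form hD hZ htG hcen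
  have htN : t ∈ D.monomialSubgroup K := by
    rw [e]
    exact mul_mem (mul_mem (diagonal_le_monomial D K (hGS hu)) hk) (diagonal_le_monomial D K (hGS hv))
  have hperm := hfix ⟨t, htN⟩ fun r hr => perm_fix hD (hF r hr) htN (hx r hr)
  have htT : t ∈ D.diagonalSubgroup K := by
    have h1 : (⟨t, htN⟩ : ↥(D.monomialSubgroup K)) ∈ (permHom hD K).ker := hperm
    rw [ker_permHom hD K] at h1
    exact h1
  have hchiF : ∀ r ∈ F, chi D K t r = 1 := by
    intro r hr
    have h1 := tor_conj_xG hD htT (hF r hr) 1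
    rw [hx r hr, mul_inv_cancel_right] at h1
    have h3 := xG_injective hD (hF r hr) h1
    rw [mul_one] at h3
    exact h3.symm
  have hsq : ∀ j : Fin l, chi D K t (D.simple j) = 1 ∨ chi D K t (D.simple j) = -1 := by
    intro j
    have h1 := chi_mul hD htT htT (D.simple j)
    rw [htt, chi_one] at h1
    exact mul_self_eq_one_iff.1 h1.symm
  classical
  let a : Fin l → Bool := fun j => decide (chi D K t (D.simple j) = -1)
  have ha : ∀ j : Fin l, chi D K t (D.simple j) = (-1 : K) ^ (if a j then (1 : ℤ) else 0) := by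
    intro j
    by_cases h : chi D K t (D.simple j) = -1
    · have h1 : a j = true := decide_eq_true h
      rw [h1, h]
      simp
    · have h1 : a j = false := decide_eq_false h
      rw [h1, (hsq j).resolve_right h]
      simp
  have hm1 : (-1 : K) ≠ 0 := neg_ne_zero.2 one_ne_zero
  obtain ⟨I, hI, hIa⟩ := hE a (by
    intro r hr
    have h1 := hchiF r hr
    rw [chi_vec hp htT (hF r hr)] at h1
    have h3 : ∀ j : Fin l, chi D K t (D.simple j) ^ vec D l r j = (-1 : K) ^ (if a j then vec D l r j else 0) := by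
      intro j
      rw [ha j, ← zpow_mul]
      congr 1
      split_ifs <;> simp
    rw [Finset.prod_congr rfl fun j _ => h3 j, prod_zpow _ _ hm1] at h1
    exact neg_one_zpow_eq h2 h1)
  refine ⟨I, hI, tor_ext hp htT (zP_mem hp I (hSub I hI)) fun j => ?_⟩
  rw [chi_zP hp I (hSub I hI) (simple_lt hD (lt_rank hp j)), ha j]
  have h1 := neg_one_zpow_of_even (K := K) (hIa j)
  rw [zpow_sub₀ hm1] at h1
  exact (div_eq_one_iff_eq (zpow_ne_zero _ hm1)).1 h1

/-! ### the fixator in the Weyl group, full rank -/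

/-- the list spans -/
def TabR (D : ChevalleyDatum) (l : ℕ) (F : List ℕ) : Prop :=
  ∀ j : Fin l, (2 : ℤ) • vec D l (D.simple j) = (F.map fun r => prC D r (D.simple j) • vec D l r).sum

theorem fix_of_tabR [Finite K] {F : List ℕ} (hF : ∀ r ∈ F, r < D.nroots) (hR : TabR D l F)
    (n : ↥(D.monomialSubgroup K)) (hn : ∀ r (hr : r ∈ F), permHom hp.inList K n ⟨r, hF r hr⟩ = ⟨r, hF r hr⟩) :
    permHom hp.inList K n = 1 := by
  let cs : CoxeterSystem M M.Group := M.toCoxeterSystem
  obtain ⟨w, hw⟩ := exists_rep hp cs n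
  have h1 : ∀ r ∈ F, rep cs hp.isCartan w (vec D l r) = vec D l r := by
    intro r hr
    have h3 := hw ⟨r, hF r hr⟩
    rw [hn r hr] at h3
    exact h3.symm
  have h3 : ∀ (L : List ℕ), (∀ r ∈ L, r ∈ F) → ∀ c : ℕ → ℤ,
      rep cs hp.isCartan w ((L.map fun r => c r • vec D l r).sum) = (L.map fun r => c r • vec D l r).sum := by
    intro L
    induction L with
    | nil => intro _ c; simp
    | cons r L ih =>
      intro hL c
      rw [List.map_cons, List.sum_cons, map_add, map_zsmul, h1 r (hL r List.mem_cons_self),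
        ih (fun a ha => hL a (List.mem_cons_of_mem _ ha)) c]
  have h5 : ∀ j : Fin l, rep cs hp.isCartan w (sr j) = sr j := by
    intro j
    have h6 := h3 F (fun _ h => h) (fun r => prC D r (D.simple j))
    rw [← hR j, vec_simple hp, map_zsmul] at h6
    exact smul_right_injective _ (two_ne_zero : (2 : ℤ) ≠ 0) h6
  have h6 : w = 1 := eq_one_of_fix cs hp.isCartan w h5
  apply Equiv.ext
  intro r
  apply Fin.ext
  refine vec_inj hp (Fin.is_lt _) r.2 ?_
  rw [hw r, h6, map_one]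
  rfl

end Tor

end Cfsg.Agent.H808.RV
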