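import Cfsg.Agent.H808.RV.FPsi

/-!
# Frames of fundamental subgroups: the tables of `F₄`, `E₆`, `E₇`, `E₈` (helper808, TEAM RV, frame data)
-/

set_option autoImplicit false
set_option linter.unusedSectionVars false

namespace Cfsg.Agent.H808.RV

open Subgroup Cfsg Cfsg.Lie Cfsg.Lie.ChevalleyDatum Cfsg.Agent.ChevalleyStructure
  Cfsg.Agent.ChevalleyStructure.Elts Cfsg.Agent.ChevalleyStructure.NPerm Cfsg.Agent.ChevalleyStructure.CoxeterGeom
  Cfsg.Agent.ChevalleyStructure.CoxeterGeomTypes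
  Cfsg.Agent.ChevalleyStructure.RootVec
  Cfsg.Agent.Nodes.RGDChev Cfsg.Agent.H412.OT Cfsg.Agent.H3.OT Cfsg.Agent.Nodes.Reps
  Cfsg.Agent.Tits.Roots Cfsg.Agent.Tits.Core

universe u v w

def FF4 : List ℕ := [0, 6, 17, 22]
def FE6 : List ℕ := [0, 11, 27, 32]
def FE7 : List ℕ := [0, 33, 38, 47, 52, 59, 62]
def FE8 : List ℕ := [0, 13, 80, 87, 98, 104, 113, 118]

/-- all sublists of the basis -/
def SF4 : List (List ℕ) := [0, 6, 17].sublists
def SE6 : List (List ℕ) := [0, 11, 27].sublists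
def SE7 : List (List ℕ) := [0, 33, 47].sublists
def SE8 : List (List ℕ) := [0, 13, 80, 87].sublists

theorem lt_F4 : ∀ s ∈ FF4, s < chevF4.nroots := by decide +kernel
theorem lt_E6 : ∀ s ∈ FE6, s < chevE6.nroots := by decide +kernel
theorem lt_E7 : ∀ s ∈ FE7, s < chevE7.nroots := by decide +kernel
theorem lt_E8 : ∀ s ∈ FE8, s < chevE8.nroots := by decide +kernel

theorem tabC_F4 : tabC chevF4 FF4 = true := by decide +kernel
theorem tabC_E6 : tabC chevE6 FE6 = true := by decide +kernel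
/-- the check of one witness -/
def ftOk (F : List ℕ) (p : ℕ × ℤ) : Bool := F.contains p.1 && (p.2 != 0) && decide (p.2 ≤ 3) && decide (-3 ≤ p.2)

/-- the check of `n` witnesses, starting at `a` -/
def ftCh (D : ChevalleyDatum) (F : List ℕ) (w : List (ℕ × ℤ)) (a n : ℕ) : Bool :=
  (List.range' a n).all fun s => ftOk F (w.getD s (0, 0)) && decide (prC D (w.getD s (0, 0)).1 s = (w.getD s (0, 0)).2)

theorem tabC_of_ftCh {D : ChevalleyDatum} {F : List ℕ} {w : List (ℕ × ℤ)} {m k : ℕ} (hk : D.nroots ≤ m * k)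
    (h : ∀ i < k, ftCh D F w (m * i) m = true) : tabC D F = true := by
  refine List.all_eq_true.2 fun s hs => ?_
  have hs' : s < m * k := (List.mem_range.1 hs).trans_le hk
  have hm : 0 < m := Nat.pos_of_ne_zero fun h0 => by rw [h0, Nat.zero_mul] at hs'; exact Nat.not_lt_zero _ hs'
  have h1 := h (s / m) (Nat.div_lt_of_lt_mul hs')
  have h2 := List.all_eq_true.1 h1 s (List.mem_range'_1.2 ⟨Nat.mul_div_le s m, by
    have := Nat.lt_mul_div_succ s hm
    rw [Nat.mul_add, Nat.mul_one] at this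
    exact this⟩)
  simp only [Bool.and_eq_true, ftOk, List.contains_iff_mem, bne_iff_ne, ne_eq, decide_eq_true_iff] at h2
  obtain ⟨⟨⟨⟨h3, h4⟩, h5⟩, h6⟩, h7⟩ := h2
  refine List.any_eq_true.2 ⟨_, h3, ?_⟩
  rw [h7]
  simp only [Bool.and_eq_true, bne_iff_ne, ne_eq, decide_eq_true_iff]
  exact ⟨⟨h4, h5⟩, h6⟩

/-- witnesses for `E₇` -/
def ftW7 : List (ℕ × ℤ) := [(0, 2), (0, 1), (0, 1), (0, 1), (0, 1), (0, 1), (0, 1), (0, 1), (0, 1), (0, 1), (0, 1),
  (0, 1), (0, 1), (0, 1), (0, 1), (0, 1), (0, 1), (0, 1), (0, 1), (0, 1), (0, 1), (0, 1), (0, 1), (0, 1), (0, 1),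
  (0, 1), (0, 1), (0, 1), (0, 1), (0, 1), (0, 1), (0, 1), (0, 1), (33, 2), (33, 1), (33, 1), (33, 1), (33, 1),
  (38, 2), (33, 1), (33, 1), (38, 1), (38, 1), (33, 1), (33, 1), (38, 1), (38, 1), (47, 2), (33, 1), (33, 1),
  (38, 1), (38, 1), (52, 2), (33, 1), (33, 1), (38, 1), (38, 1), (33, 1), (33, 1), (59, 2), (33, 1), (33, 1),
  (62, 2), (62, -2), (33, -1), (33, -1), (59, -2), (33, -1), (33, -1), (38, -1), (38, -1), (33, -1), (33, -1),
  (52, -2), (38, -1), (38, -1), (33, -1), (33, -1), (47, -2), (38, -1), (38, -1), (33, -1), (33, -1), (38, -1),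
  (38, -1), (33, -1), (33, -1), (38, -2), (33, -1), (33, -1), (33, -1), (33, -1), (33, -2), (0, -1), (0, -1),
  (0, -1), (0, -1), (0, -1), (0, -1), (0, -1), (0, -1), (0, -1), (0, -1), (0, -1), (0, -1), (0, -1), (0, -1),
  (0, -1), (0, -1), (0, -1), (0, -1), (0, -1), (0, -1), (0, -1), (0, -1), (0, -1), (0, -1), (0, -1), (0, -1),
  (0, -1), (0, -1), (0, -1), (0, -1), (0, -1), (0, -1), (0, -2)]

/-- witnesses for `E₈` -/
def ftW8 : List (ℕ × ℤ) := [(0, 2), (0, 1), (0, 1), (0, 1), (0, 1), (0, 1), (0, 1), (0, 1), (0, 1), (0, 1), (0, 1),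
  (0, 1), (0, 1), (13, 2), (0, 1), (0, 1), (0, 1), (0, 1), (0, 1), (0, 1), (13, 1), (0, 1), (0, 1), (0, 1),
  (0, 1), (13, 1), (0, 1), (0, 1), (0, 1), (13, 1), (0, 1), (0, 1), (13, 1), (0, 1), (13, 1), (13, 1), (0, 1),
  (0, 1), (0, 1), (13, 1), (0, 1), (0, 1), (13, 1), (0, 1), (13, 1), (13, 1), (0, 1), (0, 1), (13, 1), (0, 1),
  (13, 1), (13, 1), (0, 1), (13, 1), (13, 1), (13, 1), (0, 1), (0, 1), (13, 1), (0, 1), (13, 1), (13, 1), (0, 1),
  (13, 1), (13, 1), (13, 1), (0, 1), (13, 1), (13, 1), (13, 1), (13, 1), (0, 1), (13, 1), (13, 1), (13, 1),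
  (13, 1), (13, 1), (13, 1), (0, 1), (0, 1), (80, 2), (0, 1), (80, 1), (80, 1), (0, 1), (80, 1), (80, 1), (87, 2),
  (0, 1), (80, 1), (80, 1), (87, 1), (87, 1), (0, 1), (80, 1), (80, 1), (87, 1), (87, 1), (98, 2), (0, 1),
  (80, 1), (80, 1), (87, 1), (87, 1), (104, 2), (0, 1), (80, 1), (80, 1), (87, 1), (87, 1), (0, 1), (80, 1),
  (80, 1), (113, 2), (0, 1), (80, 1), (80, 1), (0, 1), (118, 2), (0, 1), (0, -1), (118, -2), (0, -1), (80, -1),
  (80, -1), (0, -1), (113, -2), (80, -1), (80, -1), (0, -1), (87, -1), (87, -1), (80, -1), (80, -1), (0, -1),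
  (104, -2), (87, -1), (87, -1), (80, -1), (80, -1), (0, -1), (98, -2), (87, -1), (87, -1), (80, -1), (80, -1),
  (0, -1), (87, -1), (87, -1), (80, -1), (80, -1), (0, -1), (87, -2), (80, -1), (80, -1), (0, -1), (80, -1),
  (80, -1), (0, -1), (80, -2), (0, -1), (0, -1), (13, -1), (13, -1), (13, -1), (13, -1), (13, -1), (13, -1),
  (0, -1), (13, -1), (13, -1), (13, -1), (13, -1), (0, -1), (13, -1), (13, -1), (13, -1), (0, -1), (13, -1),
  (13, -1), (0, -1), (13, -1), (0, -1), (0, -1), (13, -1), (13, -1), (13, -1), (0, -1), (13, -1), (13, -1),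
  (0, -1), (13, -1), (0, -1), (0, -1), (13, -1), (13, -1), (0, -1), (13, -1), (0, -1), (0, -1), (13, -1), (0, -1),
  (0, -1), (0, -1), (13, -1), (13, -1), (0, -1), (13, -1), (0, -1), (0, -1), (13, -1), (0, -1), (0, -1), (0, -1),
  (13, -1), (0, -1), (0, -1), (0, -1), (0, -1), (13, -1), (0, -1), (0, -1), (0, -1), (0, -1), (0, -1), (0, -1),
  (13, -2), (0, -1), (0, -1), (0, -1), (0, -1), (0, -1), (0, -1), (0, -1), (0, -1), (0, -1), (0, -1), (0, -1),
  (0, -1), (0, -2)]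

theorem ftC7_0 : ftCh chevE7 FE7 ftW7 (42 * 0) 42 = true := by decide +kernel
theorem ftC7_1 : ftCh chevE7 FE7 ftW7 (42 * 1) 42 = true := by decide +kernel
theorem ftC7_2 : ftCh chevE7 FE7 ftW7 (42 * 2) 42 = true := by decide +kernel
theorem ftC8_0 : ftCh chevE8 FE8 ftW8 (40 * 0) 40 = true := by decide +kernel
theorem ftC8_1 : ftCh chevE8 FE8 ftW8 (40 * 1) 40 = true := by decide +kernel
theorem ftC8_2 : ftCh chevE8 FE8 ftW8 (40 * 2) 40 = true := by decide +kernel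
theorem ftC8_3 : ftCh chevE8 FE8 ftW8 (40 * 3) 40 = true := by decide +kernel
theorem ftC8_4 : ftCh chevE8 FE8 ftW8 (40 * 4) 40 = true := by decide +kernel
theorem ftC8_5 : ftCh chevE8 FE8 ftW8 (40 * 5) 40 = true := by decide +kernel

theorem tabC_E7 : tabC chevE7 FE7 = true := by
  refine tabC_of_ftCh (m := 42) (k := 3) (w := ftW7) (by decide +kernel) fun i hi => ?_
  have h : i = 0 ∨ i = 1 ∨ i = 2 := by omega
  rcases h with rfl | rfl | rfl
  exacts [ftC7_0, ftC7_1, ftC7_2]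

theorem tabC_E8 : tabC chevE8 FE8 = true := by
  refine tabC_of_ftCh (m := 40) (k := 6) (w := ftW8) (by decide +kernel) fun i hi => ?_
  have h : i = 0 ∨ i = 1 ∨ i = 2 ∨ i = 3 ∨ i = 4 ∨ i = 5 := by omega
  rcases h with rfl | rfl | rfl | rfl | rfl | rfl
  exacts [ftC8_0, ftC8_1, ftC8_2, ftC8_3, ftC8_4, ftC8_5]

theorem tabR_F4 : TabR chevF4 4 FF4 := by unfold TabR; decide +kernel
theorem tabR_E7 : TabR chevE7 7 FE7 := by unfold TabR; decide +kernel
theorem tabR_E8 : TabR chevE8 8 FE8 := by unfold TabR; decide +kernel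

instance decTabE (D : ChevalleyDatum) (l : ℕ) (F : List ℕ) (Sub : List (List ℕ)) : Decidable (TabE D l F Sub) := by
  unfold TabE; infer_instance

theorem tabE_F4 : TabE chevF4 4 FF4 SF4 := by decide +kernel
theorem tabE_E6 : TabE chevE6 6 FE6 SE6 := by decide +kernel
theorem tabE_E7 : TabE chevE7 7 FE7 SE7 := by decide +kernel
theorem tabE_E8 : TabE chevE8 8 FE8 SE8 := by decide +kernel

/-! ### further tables -/

/-- pairwise strongly orthogonal -/
def tabO (D : ChevalleyDatum) (F : List ℕ) : Bool :=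
  F.all fun a => F.all fun b => (a == b) || (orth D a b && orth D a (D.neg b))

/-- the involutions are different -/
def tabN (D : ChevalleyDatum) (F : List ℕ) : Bool :=
  F.all fun a => F.all fun b => (a == b) || (List.range D.rank).any fun j => sumP D [a, b] (D.simple j) % 2 != 0

/-- the involutions are not trivial -/
def tabZ (D : ChevalleyDatum) (F : List ℕ) : Bool :=
  F.all fun a => (List.range D.rank).any fun j => prC D a (D.simple j) % 2 != 0

/-- the relations -/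
def tabQ (D : ChevalleyDatum) (F : List ℕ) : Bool :=
  F.all fun a => F.all fun b => (a == b) ||
    (F.any fun c => (c != a) && (c != b) && (List.range D.rank).all fun j => sumP D [a, b, c] (D.simple j) % 2 == 0) ||
    (F.any fun c => F.any fun d => (c != a) && (c != b) && (d != a) && (d != b) && (c != d) &&
      (List.range D.rank).all fun j => sumP D [a, b, c, d] (D.simple j) % 2 == 0)

theorem tabO_F4 : tabO chevF4 FF4 = true := by decide +kernel
theorem tabO_E6 : tabO chevE6 FE6 = true := by decide +kernel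
theorem tabO_E7 : tabO chevE7 FE7 = true := by decide +kernel
theorem tabO_E8 : tabO chevE8 FE8 = true := by decide +kernel
theorem tabN_F4 : tabN chevF4 FF4 = true := by decide +kernel
theorem tabN_E6 : tabN chevE6 FE6 = true := by decide +kernel
theorem tabN_E7 : tabN chevE7 FE7 = true := by decide +kernel
theorem tabN_E8 : tabN chevE8 FE8 = true := by decide +kernel
theorem tabZ_F4 : tabZ chevF4 FF4 = true := by decide +kernel
theorem tabZ_E6 : tabZ chevE6 FE6 = true := by decide +kernel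
theorem tabZ_E7 : tabZ chevE7 FE7 = true := by decide +kernel
theorem tabZ_E8 : tabZ chevE8 FE8 = true := by decide +kernel
theorem tabQ_F4 : tabQ chevF4 FF4 = true := by decide +kernel
theorem tabQ_E6 : tabQ chevE6 FE6 = true := by decide +kernel
theorem tabQ_E7 : tabQ chevE7 FE7 = true := by decide +kernel
theorem tabQ_E8 : tabQ chevE8 FE8 = true := by decide +kernel
theorem subF4 : ∀ I ∈ SF4, ∀ r ∈ I, r ∈ FF4 := by decide +kernel
theorem subE6 : ∀ I ∈ SE6, ∀ r ∈ I, r ∈ FE6 := by decide +kernel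
theorem subE7 : ∀ I ∈ SE7, ∀ r ∈ I, r ∈ FE7 := by decide +kernel
theorem subE8 : ∀ I ∈ SE8, ∀ r ∈ I, r ∈ FE8 := by decide +kernel

/-! ### the fixator for `E₆` -/

/-- a vector invariant modulo 3 -/
def v6 : Fin 6 → ℤ := ![1, 0, 2, 0, 1, 2]
/-- the pairings of `v6`, divided by 3 -/
def m6 : Fin 6 → ℤ := ![0, 0, 1, -1, 0, 1]

theorem pair_v6 : ∀ i : Fin 6, pairing (cartanOf chevE6 6) i v6 = 3 * m6 i := by decide +kernel

theorem rep_mod3 {M : CoxeterMatrix (Fin 6)} (hp : IsType chevE6 6 M) {W : Type*} [Group W] (cs : CoxeterSystem M W)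
    (w : W) : ∃ u : Fin 6 → ℤ, rep cs hp.isCartan w v6 = v6 + (3 : ℤ) • u := by
  obtain ⟨ω, rfl⟩ := cs.wordProd_surjective w
  induction ω with
  | nil => exact ⟨0, by rw [CoxeterSystem.wordProd_nil, map_one, smul_zero, add_zero]; rfl⟩
  | cons i ω ih =>
    obtain ⟨u, hu⟩ := ih
    refine ⟨rep cs hp.isCartan (cs.simple i) u - m6 i • sr i, ?_⟩
    rw [CoxeterSystem.wordProd_cons, rep_mul_apply, hu, map_add, map_zsmul]
    have h1 : rep cs hp.isCartan (cs.simple i) v6 = v6 - (3 * m6 i) • sr i := by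
      rw [rep_simple_eq, pair_v6]
    rw [h1, smul_sub, mul_smul]
    abel

theorem tab6a : ∀ s < chevE6.nroots, ∀ j : Fin 6, (∀ r ∈ FE6, prC chevE6 r s = prC chevE6 r (chevE6.simple j)) →
    s ∈ (![[56, 36], [46], [42, 37], [39], [37, 42], [36, 56]] : Fin 6 → List ℕ) j := by decide +kernel

theorem tab6b : ∀ s0 ∈ [56, 36], ∀ s2 ∈ [42, 37], ∀ s4 ∈ [37, 42], ∀ s5 ∈ [36, 56],
    (∀ i : Fin 6, (vec chevE6 6 s0 i + 2 * vec chevE6 6 s2 i + vec chevE6 6 s4 i + 2 * vec chevE6 6 s5 i - v6 i) % 3 = 0) →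
    s0 = 56 ∧ s2 = 42 ∧ s4 = 37 ∧ s5 = 36 := by decide +kernel

theorem sum_v6 : v6 = (sr 0 + (2 : ℤ) • sr 2 + sr 4 + (2 : ℤ) • sr 5 : Fin 6 → ℤ) := by decide +kernel

theorem simpleE6 : ∀ j : Fin 6, chevE6.simple j = (![56, 46, 42, 39, 37, 36] : Fin 6 → ℕ) j := by decide +kernel

end Cfsg.Agent.H808.RV
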