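import Cfsg.Agent.H808.RV.FMain
import Cfsg.Agent.ChevalleyStructure.TwE6BN

/-!
# Frames of fundamental subgroups: `²E₆(q)` inside `E₆(q²)` (helper808, TEAM RV, frame data)
-/

set_option autoImplicit false
set_option linter.unusedSectionVars false

namespace Cfsg.Agent.H808.RV

open Subgroup Cfsg Cfsg.Lie Cfsg.Lie.ChevalleyDatum Cfsg.Agent.ChevalleyStructure
  Cfsg.Agent.ChevalleyStructure.Elts Cfsg.Agent.Nodes.RGDChev
open Cfsg.Agent.ChevalleyStructure.TwE6Basic (hE6 x rho epsE wP wp sg fix mem_fix sg_x n n_conj twisted_le_fix single_mem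
  rho_wP wP_val)
open Cfsg.Agent.ChevalleyStructure.GraphSymm
open Cfsg.Agent.Nodes.RGDFoldSL (wS hS coe_wS coe_hS psi psi_up psi_lo psi_hS map_up map_lo map_hS)
open Cfsg.Agent.ChevalleyStructure.SL2Hom (up lo mem_closure_SL2)

universe u v w

variable {K : Type u} [Field K] {q : ℕ} {φ : K →+* K}

theorem eps_fixed : ∀ r : Fin 72, rho r = r → epsE r = 1 := by decide +kernel

theorem sg_fixed {r : Fin 72} (hr : rho r = r) (t : K) : sg φ (x r.val t) = x r.val (φ t) := by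
  have h : symmE6.ε r = 1 := eps_fixed r hr
  rw [sg_x, h, hr, Int.cast_one, one_mul]

/-- the root elements with parameter in the fixed field lie in the twisted group -/
def GoodR (K : Type u) [Field K] (q : ℕ) (φ : K →+* K) (r : Fin 72) : Prop :=
  rho r = r ∧ ∀ t : K, φ t = t → x r.val t ∈ twistedE6 K q

theorem good_step (hφ : ∀ t, φ t = t ^ q) (hqq : ∀ t : K, (t ^ q) ^ q = t) (i : Fin 4) {r : Fin 72}
    (h : GoodR K q φ r) : GoodR K q φ (wP i r) := by
  have hρ : rho (wP i r) = wP i r := by rw [rho_wP, h.1]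
  refine ⟨hρ, fun t ht => ?_⟩
  obtain ⟨η, hη, hc⟩ := n_conj (K := K) i r.isLt
  have hnG : n (K := K) i ∈ twistedE6 K q := Cfsg.Agent.ChevalleyStructure.TwE6BN.n_mem_G φ hφ i
  have key : ∀ u : K, φ u = u → x (wP i r).val (η * u) ∈ twistedE6 K q := by
    intro u hu
    rw [wP_val, ← hc u]
    exact mul_mem (mul_mem hnG (h.2 u hu)) (inv_mem hnG)
  have hη1 : φ η = η := by
    have h1 := twisted_le_fix φ hφ hqq (key 1 (map_one φ))
    rw [mem_fix, sg_fixed hρ, mul_one] at h1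
    exact Cfsg.Agent.ChevalleyStructure.TwE6Basic.x_injective (wP i r).isLt h1
  have h1 := key (η⁻¹ * t) (by rw [map_mul, map_inv₀, hη1, ht])
  rwa [mul_inv_cancel_left₀ hη] at h1

theorem good_start {r : Fin 72} (hφ : ∀ t, φ t = t ^ q) (hr : r.val ∈ [46, 25, 39, 32]) (hρ : rho r = r) :
    GoodR K q φ r := ⟨hρ, fun t ht => single_mem (by rw [← hφ, ht]) hr⟩

theorem good_word (hφ : ∀ t, φ t = t ^ q) (hqq : ∀ t : K, (t ^ q) ^ q = t) (w : List (Fin 4)) {r : Fin 72}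
    (h : GoodR K q φ r) : GoodR K q φ (w.foldl (fun s i => wP i s) r) := by
  induction w generalizing r with
  | nil => exact h
  | cons i w ih => exact ih (good_step hφ hqq i h)

/-- the words -/
def words : List (List (Fin 4)) := [[], [2], [2, 3], [1, 2, 1, 3, 2, 1, 0], [0, 2, 1, 3, 2, 1, 0]]

theorem tab_words : ∀ r : Fin 72, r.val ∈ [0, 11, 27, 32, 71, 60, 44, 39] → ∃ s : Fin 72, s.val ∈ [46, 25, 39, 32] ∧
    rho s = s ∧ ∃ w ∈ words, w.foldl (fun s i => wP i s) s = r := by decide +kernel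

theorem good_all (hφ : ∀ t, φ t = t ^ q) (hqq : ∀ t : K, (t ^ q) ^ q = t) {r : Fin 72}
    (hr : r.val ∈ [0, 11, 27, 32, 71, 60, 44, 39]) : GoodR K q φ r := by
  obtain ⟨s, hs, hρ, w, -, rfl⟩ := tab_words r hr
  exact good_word hφ hqq w (good_start hφ hs hρ)

theorem tab_FE6 : ∀ r ∈ FE6, r < 72 ∧ r ∈ [0, 11, 27, 32, 71, 60, 44, 39] ∧ chevE6.neg r < 72 ∧
    chevE6.neg r ∈ [0, 11, 27, 32, 71, 60, 44, 39] := by decide +kernel

/-- the fixed field -/
def Ef (φ : K →+* K) : Subfield K := φ.eqLocusField (RingHom.id K)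

theorem mem_Ef {t : K} : t ∈ Ef φ ↔ φ t = t := Iff.rfl

theorem tw_mem (hφ : ∀ t, φ t = t ^ q) (hqq : ∀ t : K, (t ^ q) ^ q = t) (hD : InList chevE6) {r : ℕ} (hr : r ∈ FE6)
    {t : K} (ht : t ∈ Ef φ) : xG hD r t ∈ twistedE6 K q ∧ xG hD (chevE6.neg r) t ∈ twistedE6 K q := by
  obtain ⟨h1, h2, h3, h4⟩ := tab_FE6 r hr
  exact ⟨(good_all hφ hqq (r := ⟨r, h1⟩) h2).2 t ht, (good_all hφ hqq (r := ⟨_, h3⟩) h4).2 t ht⟩

theorem sg_psi (hφ : ∀ t, φ t = t ^ q) (hqq : ∀ t : K, (t ^ q) ^ q = t) (hD : InList chevE6) {r : ℕ} (hr : r ∈ FE6)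
    (A : Matrix.SpecialLinearGroup (Fin 2) K) :
    sg φ (psi hD K r A) = psi hD K r (Matrix.SpecialLinearGroup.map φ A) := by
  obtain ⟨h1, h2, h3, h4⟩ := tab_FE6 r hr
  have hr1 : r < chevE6.nroots := lt_E6 r hr
  have g1 := (good_all (K := K) hφ hqq (r := ⟨r, h1⟩) h2).1
  have g2 := (good_all (K := K) hφ hqq (r := ⟨_, h3⟩) h4).1
  have h5 : A ∈ ((sg φ).comp (psi hD K r)).eqLocus ((psi hD K r).comp (Matrix.SpecialLinearGroup.map φ)) := by
    refine (Subgroup.closure_le _).2 ?_ (mem_closure_SL2 A)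
    rintro _ (⟨t, rfl⟩ | ⟨t, rfl⟩)
    · show sg φ (psi hD K r (up t)) = psi hD K r (Matrix.SpecialLinearGroup.map φ (up t))
      rw [map_up, psi_up hD hr1, psi_up hD hr1]
      exact sg_fixed g1 t
    · show sg φ (psi hD K r (lo t)) = psi hD K r (Matrix.SpecialLinearGroup.map φ (lo t))
      rw [map_lo, psi_lo hD hr1, psi_lo hD hr1]
      exact sg_fixed g2 t
  exact h5

/-- the elements of `SL₂(K)` fixed by the field automorphism -/
theorem mem_map_of_fix {A : Matrix.SpecialLinearGroup (Fin 2) K} (h : Matrix.SpecialLinearGroup.map φ A = A) :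
    ∃ B : Matrix.SpecialLinearGroup (Fin 2) (Ef φ), Matrix.SpecialLinearGroup.map (Ef φ).subtype B = A := by
  have h1 : ∀ i j, φ (A.1 i j) = A.1 i j := by
    intro i j
    have := congrArg (fun X : Matrix.SpecialLinearGroup (Fin 2) K => X.1 i j) h
    simpa using this
  let B₀ : Matrix (Fin 2) (Fin 2) (Ef φ) := fun i j => ⟨A.1 i j, h1 i j⟩
  have hdet : B₀.det = 1 := by
    apply (Ef φ).subtype_injective
    have h3 := A.2
    rw [Matrix.det_fin_two] at h3 ⊢
    rw [map_one, map_sub, map_mul, map_mul]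
    exact h3
  refine ⟨⟨B₀, hdet⟩, ?_⟩
  apply Subtype.ext
  ext i j
  rfl

theorem tw_fix (hφ : ∀ t, φ t = t ^ q) (hqq : ∀ t : K, (t ^ q) ^ q = t) (hD : InList chevE6) {r : ℕ} (hr : r ∈ FE6)
    (hinj : Function.Injective (psi hD K r)) {A : Matrix.SpecialLinearGroup (Fin 2) K}
    (hA : psi hD K r A ∈ twistedE6 K q) : psi hD K r A ∈ (jE hD (Ef φ) r).range := by
  have h1 := twisted_le_fix φ hφ hqq hA
  rw [mem_fix, sg_psi hφ hqq hD hr] at h1
  obtain ⟨B, hB⟩ := mem_map_of_fix (hinj h1)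
  exact ⟨B, by rw [← hB]; rfl⟩

/-! ### the frames of the groups -/

section Rows

theorem f4T : IsType chevF4 4 CoxeterMatrix.F₄ := by simp [IsType, typeList]
theorem e6T : IsType chevE6 6 CoxeterMatrix.E₆ := by simp [IsType, typeList]
theorem e7T : IsType chevE7 7 CoxeterMatrix.E₇ := by simp [IsType, typeList]
theorem e8T : IsType chevE8 8 CoxeterMatrix.E₈ := by simp [IsType, typeList]

variable {S : Type v} [Group S] [Finite S]

/-- Frames for every Sylow 2-subgroup -/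
def HasFrame (S : Type v) [Group S] : Prop :=
  ∀ P : Sylow 2 S, ∃ (ι : Type) (_ : Finite ι) (_ : Nonempty ι) (L : ι → Subgroup S) (z : ι → S),
    FrameD (P : Subgroup S) L z ∧ Rel z

theorem card_field {K : Type u} [Field K] [Finite K] {p : ℕ} [CharP K p] (hp : p.Prime) : p ≤ Nat.card K := by
  have := Fintype.ofFinite K
  have := Fact.mk hp
  obtain ⟨n, -, h⟩ := FiniteField.card K p
  rw [Nat.card_eq_fintype_card, h]
  exact Nat.le_self_pow n.ne_zero p

theorem two_ne {K : Type u} [Field K] {p : ℕ} [CharP K p] (hp : 5 ≤ p) : (2 : K) ≠ 0 := by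
  intro h
  have h1 : p ∣ 2 := (CharP.cast_eq_zero_iff K p 2).1 (by exact_mod_cast h)
  have := Nat.le_of_dvd (by norm_num) h1
  omega

/-- the untwisted groups -/
theorem frame_untw {D : ChevalleyDatum} {l : ℕ} {M : CoxeterMatrix (Fin l)} (hT : IsType D l M) {K : Type u} [Field K]
    [Finite K] {p : ℕ} [CharP K p] (hp : p.Prime) (h5 : 5 ≤ p) {F : List ℕ} {Sub : List (List ℕ)} (hF : F ≠ [])
    (T : Tabs D l F Sub)
    (hfix : ∀ n : ↥(D.monomialSubgroup K), (∀ r (hr : r ∈ F), NPerm.permHom hT.inList K n ⟨r, T.lt r hr⟩ = ⟨r, T.lt r hr⟩) →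
      NPerm.permHom hT.inList K n = 1)
    (hS : Nonempty (S ≃* D.group K)) : HasFrame S := by
  obtain ⟨φ⟩ := hS
  have hf : Function.Injective ((D.group K).subtype.comp φ.toMonoidHom) :=
    (D.group K).subtype_injective.comp φ.injective
  have hrange : ∀ x, x ∈ D.group K → x ∈ ((D.group K).subtype.comp φ.toMonoidHom).range := by
    intro x hx
    exact ⟨φ.symm ⟨x, hx⟩, by simp⟩
  intro P
  have hE : Nat.card (⊤ : Subfield K) = Nat.card K :=
    Nat.card_congr (Equiv.Set.univ K)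
  obtain ⟨L, z, h1, h2⟩ := main_frame hT (two_ne h5) (E := ⊤) (by rw [hE]; exact h5.trans (card_field hp)) T hfix hf
    (fun x => (φ x).2) (fun r hr t _ => ⟨hrange _ (xG_mem_group _ _ _), hrange _ (xG_mem_group _ _ _)⟩)
    (fun r hr A _ => by
      refine ⟨⟨A.1.map fun c => (⟨c, trivial⟩ : (⊤ : Subfield K)), ?_⟩, ?_⟩
      · apply (⊤ : Subfield K).subtype_injective
        have h3 := A.2
        rw [Matrix.det_fin_two] at h3 ⊢
        rw [map_one, map_sub, map_mul, map_mul]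
        exact h3
      · show psi _ K r _ = _
        congr 1) P
  refine ⟨{r // r ∈ F}, inferInstance, ?_, L, z, h1, h2⟩
  obtain ⟨a, F', rfl⟩ := List.exists_cons_of_ne_nil hF
  exact ⟨⟨a, List.mem_cons_self⟩⟩

variable {F : Type u} [Field F] [Finite F] {p : ℕ} [CharP F p]

theorem frame_f4 (hp : p.Prime) (h5 : 5 ≤ p) (hS : Nonempty (S ≃* chevF4.group F)) : HasFrame S :=
  frame_untw f4T hp h5 (by decide) tabs_F4 (fix_of_tabR f4T lt_F4 tabR_F4) hS

theorem frame_e6 (hp : p.Prime) (h5 : 5 ≤ p) (hS : Nonempty (S ≃* chevE6.group F)) : HasFrame S :=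
  frame_untw e6T hp h5 (by decide) tabs_E6 (fix_E6 e6T) hS

theorem frame_e7 (hp : p.Prime) (h5 : 5 ≤ p) (hS : Nonempty (S ≃* chevE7.group F)) : HasFrame S :=
  frame_untw e7T hp h5 (by decide) tabs_E7 (fix_of_tabR e7T lt_E7 tabR_E7) hS

theorem frame_e8 (hp : p.Prime) (h5 : 5 ≤ p) (hS : Nonempty (S ≃* chevE8.group F)) : HasFrame S :=
  frame_untw e8T hp h5 (by decide) tabs_E8 (fix_of_tabR e8T lt_E8 tabR_E8) hS

theorem frame_tw {K : Type u} [Field K] [Fintype K] {p : ℕ} [CharP K p] (hp : p.Prime) (h5 : 5 ≤ p) {q : ℕ}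
    (hq : IsPrimePow q) (hK : Fintype.card K = q ^ 2) (hS : Nonempty (S ≃* twistedE6 K q)) : HasFrame S := by
  obtain ⟨ψ⟩ := hS
  obtain ⟨φ, hφ, hqq⟩ := Cfsg.Agent.ChevalleyStructure.TwE6Basic.exists_frob (K := K) hq hK
  have hle : twistedE6 K q ≤ chevE6.group K := by
    rw [Cfsg.Agent.ChevalleyStructure.TwE6Basic.twisted_le_iff]
    exact ⟨fun t _ r _ => xG_mem_group _ _ _, fun t rs _ => mul_mem (xG_mem_group _ _ _) (xG_mem_group _ _ _)⟩
  have hf : Function.Injective ((twistedE6 K q).subtype.comp ψ.toMonoidHom) :=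
    (twistedE6 K q).subtype_injective.comp ψ.injective
  have hrange : ∀ x, x ∈ twistedE6 K q → x ∈ ((twistedE6 K q).subtype.comp ψ.toMonoidHom).range := by
    intro x hx
    exact ⟨ψ.symm ⟨x, hx⟩, by simp⟩
  have hinj : ∀ r ∈ FE6, Function.Injective (psi e6T.inList K r) := by
    intro r hr
    obtain ⟨j, hj⟩ := tabZ_spec e6T tabs_E6.Z hr
    exact psi_injective e6T.inList (two_ne h5) (by have := card_field (K := K) hp; omega) (lt_E6 r hr)
      (NPerm.simple_lt e6T.inList (Nodes.RGDChev.lt_rank e6T j)) hj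
  intro P
  have hcE : 5 ≤ Nat.card (Ef φ) := by
    have : CharP (Ef φ) p := RingHom.charP (Ef φ).subtype (Ef φ).subtype_injective p
    exact h5.trans (card_field hp)
  obtain ⟨L, z, h1, h2⟩ := main_frame e6T (two_ne h5) (E := Ef φ) hcE tabs_E6 (fix_E6 e6T) hf
    (fun x => hle (ψ x).2) (fun r hr t ht => ⟨hrange _ (tw_mem hφ hqq _ hr ht).1, hrange _ (tw_mem hφ hqq _ hr ht).2⟩)
    (fun r hr A hA => tw_fix hφ hqq _ hr (hinj r hr) (by
      obtain ⟨a, ha⟩ := hA
      rw [← ha]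
      exact (ψ a).2)) P
  exact ⟨{r // r ∈ FE6}, inferInstance, ⟨⟨0, by decide⟩⟩, L, z, h1, h2⟩

end Rows

end Cfsg.Agent.H808.RV
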